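import Mathlib
import Cfsg.Agent.Base
import Cfsg.Agent.Lib.SylInt.U3
import Cfsg.Agent.Lib.SylInt.Ess
import Cfsg.Agent.Lib.SL2Elt.Order
import Cfsg.Agent.Lib.SFree.Comp
import Cfsg.Agent.Lib.InvChar.BenderAb

/-! # Sylow intersections: no outer 2-automorphisms when `N(S)` controls fusion -/

set_option autoImplicit false

namespace H69.SI

open Subgroup Cfsg H69 Gold H59 H45
open scoped MatrixGroups commutatorElement

universe u

theorem L2e.sq {G : Type*} [Group G] (h : L2e G) {x : G} (hx : ∃ k : ℕ, x ^ 2 ^ k = 1) :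
    x * x = 1 := by
  obtain ⟨F, _, _, n, h1, h2, ⟨e⟩⟩ := h
  have := charP_two (by omega : n ≠ 0) h2
  obtain ⟨g, hg⟩ := H64.SL2.proj_surjective (e x)
  obtain ⟨k, hk⟩ := hx
  apply e.injective
  rw [map_mul, map_one, ← hg]
  have hev : 2 ∣ Nat.card F := by
    rw [Nat.card_eq_fintype_card, h2]; exact dvd_pow_self 2 (by omega)
  have hpos : 0 < Nat.card F := Nat.card_pos
  have key : ∀ m : ℕ, Odd m → g ^ m = 1 → H64.SL2.proj g * H64.SL2.proj g = 1 := fun m hm h => by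
    have h1 : H64.SL2.proj g ^ m = 1 := by rw [← map_pow, h, map_one]
    have h2 : H64.SL2.proj g ^ 2 ^ k = 1 := by rw [hg, ← map_pow, hk, map_one]
    have h3 := Nat.dvd_gcd (orderOf_dvd_of_pow_eq_one h1) (orderOf_dvd_of_pow_eq_one h2)
    rw [Nat.Coprime.pow_right k (Nat.coprime_two_right.2 hm), Nat.dvd_one, orderOf_eq_one_iff] at h3
    rw [h3, mul_one]
  by_cases ht : H64.SL2.tr g ^ 2 = 4
  · rw [← map_mul, H64.SL2.proj_eq_one_iff, ← pow_two]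
    exact H64.SL2.pow_char_mem_center 2 ht
  · by_cases hs : H64.SL2.Split g
    · exact key _ (by rw [Nat.odd_iff]; omega) (H64.SL2.pow_eq_one_of_split ht hs)
    · exact key _ (by rw [Nat.odd_iff]; omega) (H64.SL2.pow_eq_one_of_not_split hs)

variable {G : Type u} [Group G] [Finite G]

theorem sz_inner' {N : Subgroup G} (h : Lie.IsoSuzuki N) {γ : G} (hγ : γ ∈ 𝐍(N)) (h2 : γ * γ = 1) :
    γ ∈ N ⊔ 𝐂(N) := by
  obtain ⟨F, _, _, m, _, ⟨S⟩⟩ := H72.exists_model_of_isoSuzuki h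
  have hr : N.subtype.range = N := N.range_subtype
  obtain ⟨α, hα⟩ := H25.SF.exists_aut N.subtype N.subtype_injective (a := γ) (by rw [hr]; exact hγ)
  obtain ⟨g, hg⟩ := H25.SF.sz_inner S α (by
    ext k
    have := H25.SF.aut_pow hα 2 k
    rw [pow_two γ, h2] at this
    simpa using this)
  have := H25.SF.mem_of_aut_eq_conj (φ := N.subtype) (a := γ) (g := g) fun k => by
    rw [← hα, hg]; rfl
  rwa [hr] at this

omit [Finite G] in
/-- If the elements of `T` whose commutator with the involution `γ` is an involution commute with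
`γ`, then `γ` centralizes `T`. -/
theorem cent_of_w0 {T : Subgroup G} (hT : IsPGroup 2 T) {γ : G} (h2 : γ * γ = 1) (hn : γ ∈ 𝐍(T))
    (h : ∀ w ∈ T, w * γ * w⁻¹ * γ⁻¹ * (w * γ * w⁻¹ * γ⁻¹) = 1 → w * γ = γ * w) : γ ∈ 𝐂(T) := by
  have hi : γ⁻¹ = γ := inv_eq_of_mul_eq_one_right h2
  have key : ∀ k : ℕ, ∀ y ∈ T, γ * y * γ⁻¹ = y⁻¹ → y ^ 2 ^ k = 1 → y * y = 1 := by
    intro k
    induction k with
    | zero => intro y _ _ hy; rw [pow_zero, pow_one] at hy; rw [hy, mul_one]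
    | succ k ih =>
      intro y hy hinv hk
      have h1 : y * y * (y * y) = 1 := ih (y * y) (mul_mem hy hy)
        (by rw [← conj_mul, hinv, mul_inv_rev]) (by rw [← pow_two, ← pow_mul, ← pow_succ', hk])
      have h3 : y * γ * y⁻¹ * γ⁻¹ = y * y := by
        rw [mul_assoc y, mul_assoc y, ← conj_inv, hinv, inv_inv]
      have h4 := h y hy (by rw [h3, h1])
      rw [← h3, h4]; group
  intro t ht
  apply h t ht
  have hx : t * γ * t⁻¹ * γ⁻¹ ∈ T := by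
    rw [mul_assoc t, mul_assoc t]
    exact mul_mem ht (conj_mem_of_mem_normalizer hn (inv_mem ht))
  obtain ⟨k, hk⟩ := El2.of_mem hT hx
  refine key k _ hx ?_ hk
  rw [hi]
  calc γ * (t * γ * t⁻¹ * γ) * γ = γ * (t * γ * t⁻¹) * (γ * γ) := by group
    _ = γ⁻¹ * (t * γ⁻¹ * t⁻¹) := by rw [h2, hi, mul_one]
    _ = _ := by group

theorem cent_of_d {T : Subgroup G} (hT : IsPGroup 2 T) {γ d : G} (h2 : γ * γ = 1) (hn : γ ∈ 𝐍(T))
    (hA : ∀ a ∈ T, a * a = 1 → a * γ = γ * a) (hd : d ∈ 𝐍(T)) (ho : Odd (orderOf d))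
    (hc : d * γ = γ * d) (hC : ∀ x ∈ T, (d * x = x * d ↔ x * x = 1)) : γ ∈ 𝐂(T) := by
  refine cent_of_w0 hT h2 hn fun w hw hw2 => ?_
  have hx : w * γ * w⁻¹ * γ⁻¹ ∈ T := by
    rw [mul_assoc w, mul_assoc w]
    exact mul_mem hw (conj_mem_of_mem_normalizer hn (inv_mem hw))
  have hdx := (hC _ hx).2 hw2
  have hγ : zpowers d ≤ 𝐂[γ] := zpowers_le.2 (mem_centralizer_singleton_iff.2 hc)
  have hx' : zpowers d ≤ 𝐂[w * γ * w⁻¹ * γ⁻¹] := zpowers_le.2 (mem_centralizer_singleton_iff.2 hdx)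
  have hdT : zpowers d ≤ 𝐍(T) := zpowers_le.2 hd
  obtain ⟨n, hn1, hn2⟩ := H2.exists_mul_mem_centralizer (A := zpowers d) (N := T ⊓ 𝐂[γ])
    (le_normalizer_inf hdT (le_normalizer_of_le hγ))
    ((oddS_zpowers ho).coprime (hT.to_le inf_le_left)).symm (Or.inl (H2.isSolvable_zpowers d))
    (g := w) fun a ha => by
      refine mem_inf.2 ⟨?_, ?_⟩
      · rw [mul_assoc w⁻¹, mul_assoc w⁻¹]
        exact mul_mem (inv_mem hw) (conj_mem_of_mem_normalizer (hdT ha) hw)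
      · have e1 := mem_centralizer_singleton_iff.1 (hγ ha)
        have e2 := mem_centralizer_singleton_iff.1 (hx' ha)
        have e3 : a⁻¹ * γ = γ * a⁻¹ := by
          rw [inv_mul_eq_iff_eq_mul, ← mul_assoc, e1, mul_inv_cancel_right]
        rw [mem_centralizer_singleton_iff]
        calc w⁻¹ * a * w * a⁻¹ * γ = w⁻¹ * a * w * (a⁻¹ * γ) := by group
          _ = w⁻¹ * (a * (w * γ * w⁻¹ * γ⁻¹)) * γ * w * a⁻¹ := by rw [e3]; group
          _ = w⁻¹ * (w * γ * w⁻¹ * γ⁻¹) * (a * γ) * w * a⁻¹ := by rw [e2]; group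
          _ = γ * (w⁻¹ * a * w * a⁻¹) := by rw [e1]; group
  have h3 : w * n ∈ T := mul_mem hw (mem_inf.1 hn1).1
  have h4 := hA _ h3 ((hC _ h3).1 (hn2 d (mem_zpowers d)))
  have h5 := mem_centralizer_singleton_iff.1 (mem_inf.1 hn1).2
  rw [mul_assoc, h5, ← mul_assoc, ← mul_assoc] at h4
  exact mul_right_cancel h4

/-- Transport of the element `d` of `PSU₃(2^n)` to a prescribed Sylow 2-subgroup. -/
theorem U3e.exists_d' {N T : Subgroup G} (h : U3e N) (hT : IsSylowIn 2 T N) :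
    ∃ d ∈ N, d ∈ 𝐍(T) ∧ Odd (orderOf d) ∧ ∀ x ∈ T, (d * x = x * d ↔ x * x = 1) := by
  obtain ⟨T₀, d, h1, h2, h3, h4⟩ := h.exists_d
  have h5 := h1.map_subtype
  rw [map_subtype_top] at h5
  obtain ⟨g, hg, rfl⟩ := h5.conj hT
  refine ⟨g * d * g⁻¹, conj_mem_of_mem_normalizer (le_normalizer hg) d.2, ?_, ?_, ?_⟩
  · rw [← cj_normalizer]; exact cj_mem g (mem_norm_map_subtype.2 h2)
  · exact odd_conj (by rwa [orderOf_coe]) g
  · intro x hx
    obtain ⟨_, ⟨y, hy, rfl⟩, rfl⟩ := mem_cj'.1 hx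
    have := h4 y hy
    simp only [conj_mul, Subtype.ext_iff, coe_mul, coe_one, coe_subtype] at this ⊢
    rw [mul_left_inj, mul_right_inj, this, conj_eq_one_iff]

/-- An involution normalizing a simple Bender group `N`, two of its Sylow 2-subgroups, and
centralizing their common normalizer and the involutions of one of them, acts as an inner
automorphism. -/
theorem KS.cent_two (ks : KS.{u}) {N A T : Subgroup G} (h : TypeI N A T) (hs : IsSimpleGroup N)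
    {γ g : G} (h2 : γ * γ = 1) (hN : γ ∈ 𝐍(N)) (hT : γ ∈ 𝐍(T)) (hA : γ ∈ 𝐂(A)) (hg : g ∈ N)
    (hg' : g ∉ 𝐍(T)) (hT' : γ ∈ 𝐍(T ^ᶜ g)) (hD : γ ∈ 𝐂(N ⊓ 𝐍(T) ⊓ 𝐍(T ^ᶜ g))) :
    γ ∈ N ⊔ 𝐂(N) := by
  rcases ks.ben h hs with hb | hb | hb
  · refine mem_sup_right (h.cent_of_fix hs hN (fun t ht => hA t (h.inv t ht ?_)) hg hg' hT')
    obtain ⟨k, hk⟩ := El2.of_mem h.syl.isP ht
    exact congrArg Subtype.val (hb.sq (x := ⟨t, h.syl.le ht⟩) ⟨k, Subtype.ext hk⟩)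
  · exact sz_inner' hb hN h2
  · obtain ⟨d, hd, hdT, ho, hC⟩ := hb.exists_d' h.syl
    obtain ⟨t, ht, ht'⟩ := h.exists_mul hg hg' (le_normalizer hd) hdT
    obtain ⟨k, hk, hk'⟩ := H2.exists_conj_le_of_coprime (A := N ⊓ 𝐍(T) ⊓ 𝐍(T ^ᶜ g)) (K := T)
      (inf_le_left.trans inf_le_right) (B := zpowers d) (zpowers_le.2 (by
        rw [← mul_inv_cancel_left t d]
        exact mul_mem (mem_sup_left ht) (mem_sup_right (mem_inf.2 ⟨mem_inf.2
          ⟨mul_mem (inv_mem (h.syl.le ht)) hd, mul_mem (inv_mem (le_normalizer ht)) hdT⟩, ht'⟩))))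
      ((oddS_zpowers ho).coprime h.syl.isP).symm (Or.inl (H2.isSolvable_zpowers d))
    have hd' := hk' d (mem_zpowers d)
    refine mem_sup_right (h.cent_of_fix hs hN (cent_of_d h.syl.isP h2 hT
      (fun a ha e => hA a (h.inv a ha e)) hd'.1.2 (odd_conj ho k) (hD _ hd') fun x hx => ?_) hg hg' hT')
    have := hC (k⁻¹ * x * k) (conj_mem_of_mem_normalizer' (le_normalizer hk) hx)
    constructor
    · intro e
      have e2 := this.1 (by
        calc d * (k⁻¹ * x * k) = k⁻¹ * (k * d * k⁻¹ * x) * k := by group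
          _ = _ := by rw [e]; group)
      calc x * x = k * (k⁻¹ * x * k * (k⁻¹ * x * k)) * k⁻¹ := by group
        _ = 1 := by rw [e2]; group
    · intro e
      have e2 := this.2 (by
        calc k⁻¹ * x * k * (k⁻¹ * x * k) = k⁻¹ * (x * x) * k := by group
          _ = 1 := by rw [e]; group)
      calc k * d * k⁻¹ * x = k * (d * (k⁻¹ * x * k)) * k⁻¹ := by group
        _ = _ := by rw [e2]; group

/-- If `N(S)` controls fusion in an almost simple group, `S` lies in the socle. -/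
theorem KS.inner_of_fus (ks : KS.{u}) {L H S : Subgroup G} (hs : IsSimpleGroup L)
    (hn : ¬ IsMulCommutative L) (hL : L ≤ H) (hH : H ≤ 𝐍(L)) (hC : H ⊓ 𝐂(L) = ⊥)
    (hS : IsSylowIn 2 S H) (hF : Fus 𝐍(S) H S) : S ≤ L := by
  have hSN : S ≤ 𝐍(L) := hS.le.trans hH
  have h1 : ∀ {x : G}, x ∈ H → x ∈ L ⊔ 𝐂(L) → x ∈ L := fun {x} hx hx' => by
    obtain ⟨a, ha, c, hc, rfl⟩ := (mem_sup_of_le_normalizer_left (cents_norm le_rfl)).1 hx'
    have : c ∈ H ⊓ 𝐂(L) := mem_inf.2 ⟨(mul_mem_cancel_left (hL ha)).1 hx, hc⟩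
    rw [hC, mem_bot] at this
    rwa [this, mul_one]
  have hT : IsSylowIn 2 (S ⊓ L) L := hS.inf_normal hL hH
  have hT1 := syl_ne_bot ks.k.ft (simple_not_solv hs hn) hT
  have hS1 : S ≠ ⊥ := fun e => hT1 (by rw [e, bot_inf_eq])
  have hsc : SC (zo S) H := sc_of_fus hS (zo_le S) fun A h h1 h2 h3 => by
    obtain ⟨x, hx, e⟩ := hF A h h1 h2 h3
    exact ⟨x, ⟨hx.1, norm_zo S hx.2⟩, e⟩
  have hZH : zo S ≤ H := hsc.le
  have hZL : zo S ≤ L := fun a ha => h1 (hZH ha) ((sup_le_sup_right inf_le_right _ : zo S ⊓ L ⊔ 𝐂(L) ≤ _)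
    (r3 ks.k hs hn (ks.gs G L hs hn) (ea_zo S) (hZH.trans hH)
      (hsc.mono le_sup_right (sup_le hL hZH)) ha))
  rcases ks.gs G L hs hn _ (ea_zo S) (zo_ne_bot hS.isP hS1) (hsc.mono hZL hL) with ⟨T, h⟩ | h
  swap
  · intro s hs'
    obtain ⟨a, ha, e⟩ := x1 ks.k (Od_eq_bot ks.k.ft hs hn) h.syl (ea_cent h.ea) (hSN hs')
      (le_cent_zo S hs') (El2.of_mem hS.isP hs')
    refine h1 (hS.le hs') ?_
    rw [← mul_inv_cancel_left a s]
    exact mul_mem (mem_sup_left (hZL ha)) (mem_sup_right e)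
  have hTe : S ⊓ L = T := h.eq_of_syl hT fun e => h.A_ne (by
    rw [eq_bot_iff, ← e]; exact le_inf h.le (le_inf (zo_le S) hZL))
  have hTS : T ≤ S := hTe ▸ inf_le_left
  have hST : S ≤ 𝐍(T) := hTe ▸ le_normalizer_inf le_normalizer hSN
  -- `C_H(T) ≤ S`
  have hCT : H ⊓ 𝐂(T) ≤ S := by
    refine hS.le_of_le_normalizer (isPGroup_iff_mem.2 fun x hx => ?_) inf_le_left
      (le_normalizer_inf (le_normalizer_of_le hS.le) (le_normalizer_centralizer hST))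
    obtain ⟨a, ha, b, -, h3, h4, e⟩ := exists_parts x
    have ha' := zpowers_le.2 hx ha
    have : a ∈ H ⊓ 𝐂(L) := ⟨ha'.1, h.cent_of_odd hs (hH ha'.1) h3 ha'.2⟩
    rw [hC, mem_bot] at this
    rw [e, this, one_mul]; exact h4
  have hNT : L ⊓ 𝐍(T) ≤ 𝐍(S) := fun d hd => by
    obtain ⟨x, hx, e⟩ := hF T d hTS (hL hd.1) (by rw [cj_eq_of_mem_normalizer hd.2]; exact hTS)
    have : x⁻¹ * d ∈ S := hCT (mem_inf.2 ⟨mul_mem (inv_mem (mem_inf.1 hx).1) (hL hd.1), fun t ht => by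
      have := e t ht
      calc t * (x⁻¹ * d) = x⁻¹ * (x * t * x⁻¹) * d := by group
        _ = _ := by rw [this]; group⟩)
    rw [← mul_inv_cancel_left x d]
    exact mul_mem hx.2 (le_normalizer this)
  obtain ⟨g, hg, hg'⟩ := h.exists_out
  by_cases hb : S ⊓ 𝐍(T ^ᶜ g) = ⊥
  · intro s hs'
    obtain ⟨t, ht, e⟩ := h.exists_mul hg hg' (hSN hs') (hST hs')
    have : t⁻¹ * s ∈ S ⊓ 𝐍(T ^ᶜ g) := mem_inf.2 ⟨mul_mem (inv_mem (hTS ht)) hs', e⟩
    rw [hb, mem_bot, inv_mul_eq_one] at this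
    exact this ▸ h.syl.le ht
  exfalso
  obtain ⟨γ, hγ, ho⟩ := exists_orderOf_eq_prime (hS.isP.to_le inf_le_left) hb
  have h2 : γ * γ = 1 := by rw [← pow_two, ← ho, pow_orderOf_eq_one]
  have hγL := h1 (hS.le hγ.1) (ks.cent_two h hs h2 (hSN hγ.1) (hST hγ.1) (le_cent_zo S hγ.1) hg hg'
    hγ.2 fun d hd => by
      have e : d * γ * d⁻¹ * γ⁻¹ = 1 := h.eq_one hg hg' (hTe ▸ mem_inf.2
        ⟨mul_mem (conj_mem_of_mem_normalizer (hNT hd.1) hγ.1) (inv_mem (mem_inf.1 hγ).1), by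
          rw [mul_assoc d, mul_assoc d]
          exact mul_mem hd.1.1 (conj_mem_of_mem_normalizer (hSN hγ.1) (inv_mem (mem_inf.1 hd.1).1))⟩)
        (mul_mem (mul_mem (mul_mem hd.2 hγ.2) (inv_mem (mem_inf.1 hd).2)) (inv_mem (mem_inf.1 hγ).2))
      rw [mul_inv_eq_one, mul_inv_eq_iff_eq_mul] at e
      exact e)
  have := h.eq_one hg hg' (hTe ▸ mem_inf.2 ⟨hγ.1, hγL⟩) hγ.2
  rw [this, orderOf_one] at ho
  exact absurd ho (by decide)

end H69.SI
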