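import Mathlib
import Cfsg.Agent.Base
import Cfsg.Agent.Lib.SylInt.Defs
import Cfsg.Agent.Lib.Stein.Cover
import Cfsg.Agent.S2086
import Cfsg.Agent.S2089
import Cfsg.Agent.S2111

/-! # Perfect central extensions of the simple Bender groups -/

set_option autoImplicit false

namespace H69.SI

open Subgroup Cfsg
open scoped MatrixGroups

variable {X Y : Type*} [Group X] [Group Y]

theorem stem_of_perfect {ξ : X →* Y} (hs : Function.Surjective ξ) (hξ : ξ.ker ≤ center X)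
    (hX : commutator X = ⊤) : IsStemExtension ξ := ⟨hs, hξ, hX ▸ le_top⟩

theorem card_ker_dvd {n : ℕ} (hA : HasCyclicSchurMultiplier Y n) {ξ : X →* Y}
    (hs : Function.Surjective ξ) (hξ : ξ.ker ≤ center X) (hX : commutator X = ⊤) :
    Nat.card ξ.ker ∣ n := by
  have := H78.Schur.card_ker_inf_dvd hA ξ hs hξ
  rwa [hX, inf_top_eq, Nat.card_congr Multiplicative.toAdd, Nat.card_zmod] at this

theorem cover_cases {Γ : Type*} [Group Γ] [Finite Γ] {n : ℕ} (hA : HasCyclicSchurMultiplier Y n)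
    {σ : Γ →* Y} (hσ : IsStemExtension σ) (hΓ : commutator Γ = ⊤) (h : Nat.card σ.ker = n)
    (hp : n.Prime ∨ n = 1) {ξ : X →* Y} (hs : Function.Surjective ξ) (hξ : ξ.ker ≤ center X)
    (hX : commutator X = ⊤) : Function.Injective ξ ∨ Nonempty (X ≃* Γ) := by
  obtain ⟨η, h1, h2⟩ := H78.Schur.exists_hom_commutator hA hσ
    (by rw [h, Nat.card_congr Multiplicative.toAdd, Nat.card_zmod]) ξ hs hξ
  let ι : Γ →* commutator Γ := (MonoidHom.id Γ).codRestrict _ fun x => hΓ ▸ mem_top x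
  have h3 : ∀ x, ξ (η (ι x)) = σ x := fun x => DFunLike.congr_fun h1 (ι x)
  have h4 : Function.Surjective (η.comp ι) := fun x => by
    obtain ⟨y, hy⟩ : x ∈ η.range := by rw [h2, hX]; exact mem_top x
    exact ⟨y, hy⟩
  have h5 : (η.comp ι).ker ≤ σ.ker := fun x hx => by
    rw [MonoidHom.mem_ker, ← h3, show η (ι x) = 1 from hx, map_one]
  have h6 : Nat.card (η.comp ι).ker = 1 ∨ Nat.card (η.comp ι).ker = n := by
    have := card_dvd_of_le h5
    rw [h] at this
    rcases hp with hp | rfl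
    · exact hp.eq_one_or_self_of_dvd _ this
    · exact Or.inl (Nat.dvd_one.1 this)
  rcases h6 with h6 | h6
  · exact Or.inr ⟨(MulEquiv.ofBijective _
      ⟨(MonoidHom.ker_eq_bot_iff _).1 (card_eq_one.1 h6), h4⟩).symm⟩
  · refine Or.inl ((injective_iff_map_eq_one ξ).2 fun x hx => ?_)
    obtain ⟨y, rfl⟩ := h4 x
    have : y ∈ σ.ker := by rw [MonoidHom.mem_ker, ← h3]; exact hx
    rwa [← eq_of_le_of_card_ge h5 (by rw [h, h6])] at this

variable {ξ : X →* Y} (hs : Function.Surjective ξ) (hξ : ξ.ker ≤ center X) (hX : commutator X = ⊤)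
include hs hξ hX

theorem inj_of_mult_one (hA : HasCyclicSchurMultiplier Y 1) : Function.Injective ξ :=
  (MonoidHom.ker_eq_bot_iff _).1 (card_eq_one.1 (Nat.dvd_one.1 (card_ker_dvd hA hs hξ hX)))

theorem L2e.cover (h : L2e Y) : Function.Injective ξ ∨ Nonempty (X ≃* SL(2, ZMod 5)) := by
  obtain ⟨F, _, _, n, h1, h2, ⟨e⟩⟩ := h
  rcases h1.eq_or_lt with rfl | h1
  · have : Fact (Nat.Prime 5) := ⟨by decide⟩
    obtain ⟨f⟩ := psl_four_five h2
    have hp : commutator SL(2, ZMod 5) = ⊤ := H10.commutator_SL_fin_eq_top 2 fun _ => by simp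
    have hA := Cfsg.Agent.S2086.result (F := ZMod 5) (ZMod.card 5) 2 le_rfl (fun _ => by decide)
      (by simp)
    refine (cover_cases hA (H63.St.stem_mk_center hp) hp (by
      rw [QuotientGroup.ker_mk', H10.card_center_SL]; simp) (Or.inl (by decide))
      (ξ := (e.trans f).toMonoidHom.comp ξ) ((e.trans f).surjective.comp hs)
      (fun x hx => hξ ((e.trans f).map_eq_one_iff.1 hx)) hX).imp_left fun h =>
      Function.Injective.of_comp (f := e.trans f) h
  · have h8 : 2 ^ 3 ∣ 2 ^ n := pow_dvd_pow 2 h1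
    have hpos : 0 < 2 ^ n := by positivity
    have hA := Cfsg.Agent.S2086.result h2 2 le_rfl (fun _ => by omega)
      (by simp only [Set.mem_insert_iff, Set.mem_singleton_iff, Prod.mk.injEq]; omega)
    rw [show Nat.gcd 2 (2 ^ n - 1) = 1 from
      (Nat.Prime.coprime_iff_not_dvd Nat.prime_two).2 (by omega)] at hA
    exact Or.inl (inj_of_mult_one hs hξ hX (H78.Schur.hasSchurMultiplier_of_equiv hA e.symm))

theorem sz_cover (h : Lie.IsoSuzuki Y) : Function.Injective ξ ∨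
    ∃ (F : Type) (_ : Field F) (_ : Fintype F), Fintype.card F = 8 ∧ Nonempty (Y ≃* ↥(Lie.Sz F 4)) := by
  obtain ⟨F, _, _, m, h1, h2, ⟨e⟩⟩ := h
  rcases h1.eq_or_lt with rfl | h1
  · exact Or.inr ⟨F, _, _, h2, ⟨e⟩⟩
  · exact Or.inl (inj_of_mult_one hs hξ hX (H78.Schur.hasSchurMultiplier_of_equiv
      (Cfsg.Agent.S2111.result h1 h2) e.symm))

theorem U3e.cover (h : U3e Y) : Odd (Nat.card ξ.ker) ∧
    ∃ (n : ℕ) (F : Type) (_ : Field F) (_ : Fintype F), 2 ≤ n ∧ Fintype.card F = 4 ^ n ∧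
      (Nonempty (X ≃* PSU 3 F (2 ^ n)) ∨ Nonempty (X ≃* ↥(SU 3 F (2 ^ n)))) := by
  obtain ⟨F, _, _, n, h1, h2, ⟨e⟩⟩ := h
  have : H11.U.IsSq F (2 ^ n) := ⟨h2⟩
  have h4 : 2 ^ 2 ≤ 2 ^ n := Nat.pow_le_pow_right two_pos h1
  have hA := Cfsg.Agent.S2089.result 3 (2 ^ n) h2 le_rfl (by omega)
    (by simp only [Set.mem_insert_iff, Set.mem_singleton_iff, Prod.mk.injEq]; omega)
  have hp := H11.U.commutator_SU_eq_top (F := F) (q := 2 ^ n) (n := 3) le_rfl (by omega)
  have h3 := Nat.prime_three.eq_one_or_self_of_dvd _ (Nat.gcd_dvd_left 3 (2 ^ n + 1))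
  refine ⟨Odd.of_dvd_nat (by decide : Odd 3) ((card_ker_dvd (H78.Schur.hasSchurMultiplier_of_equiv
    hA e.symm) hs hξ hX).trans (Nat.gcd_dvd_left _ _)), n, F, inferInstance, inferInstance, h1,
    by rw [h2, ← pow_mul, mul_comm, pow_mul]; rfl, ?_⟩
  refine (cover_cases hA (H63.St.stem_mk_center hp) hp (by
      rw [QuotientGroup.ker_mk', H11.U.card_center_SU (by decide)])
      (h3.symm.imp_left fun e => by rw [e]; decide)
      (ξ := e.toMonoidHom.comp ξ) (e.surjective.comp hs)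
      (fun x hx => hξ (e.map_eq_one_iff.1 hx)) hX).imp_left fun h =>
    ⟨MulEquiv.ofBijective _ ⟨h, e.surjective.comp hs⟩⟩

end H69.SI
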