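import Mathlib
import Cfsg.Agent.Base
import Cfsg.Agent.Lib.SylInt.Defs

/-! # Sylow intersections: simple groups -/

set_option autoImplicit false

namespace H69.SI

open Subgroup Cfsg H69 H59 Gold
open scoped MatrixGroups

universe u

variable {G : Type u} [Group G] [Finite G]

/-- Central Sylow intersections. -/
def CI (G : Type*) [Group G] : Prop := ∀ S T : Sylow 2 G, S ≠ T → ∃ U : Sylow 2 G,
  (S : Subgroup G) ⊓ (T : Subgroup G) ≤ (center (U : Subgroup G)).map (U : Subgroup G).subtype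

theorem CI.no_ess (h : CI G) (S : Sylow 2 G) (U : Subgroup G) : ¬ Ess 2 ⊤ (S : Subgroup G) U := fun hU => by
  obtain ⟨T, h1, rfl⟩ := ess_inter_top hU
  obtain ⟨W, hW⟩ := h S T h1
  rw [map_subtype_center] at hW
  exact ess_not_cent (isSylowIn_top S) hU (isSylowIn_top W) (le_centralizer_iff.1 (hW.trans inf_le_right))

theorem CI.fus (h : CI G) (S : Sylow 2 G) : Fus 𝐍((S : Subgroup G)) ⊤ S :=
  fus_of_no_ess (isSylowIn_top S) (h.no_ess S)

theorem CI.sc (h : CI G) (S : Sylow 2 G) : SC (zo (S : Subgroup G)) ⊤ :=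
  sc_zo (isSylowIn_top S) fun U hU => (h.no_ess S U hU).elim

theorem KS.list_ci (ks : KS.{u}) [IsSimpleGroup G] (hn : ¬ IsMulCommutative G) (h : CI G) :
    Ben G ∨ Wal G := by
  obtain ⟨S⟩ : Nonempty (Sylow 2 G) := inferInstance
  exact ks.list_zo hn S (h.sc S)

/-- Central Sylow intersections have rank at most 1. -/
def R1 (G : Type*) [Group G] : Prop := ∀ S T : Sylow 2 G, S ≠ T →
  ((S : Subgroup G) ⊓ (T : Subgroup G) = ⊥ ∨ ∃ z ∈ (S : Subgroup G) ⊓ (T : Subgroup G), orderOf z = 2 ∧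
    ∃ U : Sylow 2 G, z ∈ (center (U : Subgroup G)).map (U : Subgroup G).subtype) →
  PRankLE 2 1 ↥((S : Subgroup G) ⊓ (T : Subgroup G))

theorem R1.sc (h : R1 G) (S : Sylow 2 G) : SC (zo (S : Subgroup G)) ⊤ :=
  sc_zo_of_rank (isSylowIn_top S) fun U hU => by
    obtain ⟨T, h1, rfl⟩ := ess_inter_top hU
    obtain ⟨z, hz, h2⟩ := exists_orderOf_eq_prime (S.isPGroup'.to_le inf_le_left)
      (center_ne_bot S.isPGroup' fun e => hU.ne (le_antisymm hU.le (e.le.trans bot_le)))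
    exact h S T h1 (Or.inr ⟨z, ess_center_le hU hz, h2, S, by rwa [map_subtype_center]⟩)

theorem R1.not_ree (h : R1 G) : ¬ IsReeType G := fun hR => by
  obtain ⟨t, K, q, h1, h2⟩ := jr_of_ree hR
  obtain ⟨S, T, h3, h4, h5⟩ := h1.exists_inter h2
  obtain ⟨U, h6, h7⟩ := h1.exists_sylow
  refine h5 (h S T h3 (Or.inr ⟨t, h4, h1.ord, U, ?_⟩))
  rw [map_subtype_center]
  exact ⟨h6, fun u hu => mem_centralizer_singleton_iff.1 (h7 hu)⟩

theorem KS.list_r1 (ks : KS.{u}) [IsSimpleGroup G] (hn : ¬ IsMulCommutative G) (h : R1 G) :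
    L2e G ∨ Lie.IsoSuzuki G ∨ U3e G ∨ L2o G ∨ Spor.IsoJ1 G := by
  obtain ⟨S⟩ : Nonempty (Sylow 2 G) := inferInstance
  rcases ks.list_zo hn S (h.sc S) with (h1 | h1 | h1) | h1 | h1 | h1 | h1
  exacts [Or.inl h1, Or.inr (Or.inl h1), Or.inr (Or.inr (Or.inl h1)), Or.inl h1,
    Or.inr (Or.inr (Or.inr (Or.inl h1))), (h.not_ree h1).elim, Or.inr (Or.inr (Or.inr (Or.inr h1)))]

omit [Finite G] in
theorem JRat.out {t : G} {K : Subgroup G} {q : ℕ} (h : JRat t K q) :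
    ∃ (F : Type) (_ : Field F) (_ : Fintype F), Odd (Fintype.card F) ∧ 3 < Fintype.card F ∧
      Nonempty (K ≃* PSL(2, F)) ∧ K ⊓ 𝐂(K) = ⊥ := by
  obtain ⟨F, _, _, rfl, ⟨e⟩⟩ := h.iso
  have h1 := psl_simple h.lt
  refine ⟨F, _, _, by have := h.mod; rw [Nat.odd_iff]; omega, h.lt, ⟨e⟩,
    simple_center e.isSimpleGroup fun hc => ?_⟩
  obtain ⟨w, hw⟩ := exists_pair (two_ne_of_mod h.mod)
  have h2 : IsMulCommutative PSL(2, F) := ⟨⟨fun a b => e.symm.injective (by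
    rw [map_mul, map_mul, hc.1.1])⟩⟩
  rcases h1.eq_bot_or_eq_top_of_normal (zpowers w) inferInstance with h3 | h3
  · exact hw.ne₂ (zpowers_eq_bot.1 h3)
  · rcases (mem_zpowers_of_mul_self hw.sq₂).1 (h3.ge (mem_top (H29.matJ F : PSL(2, F)))) with h4 | h4
    exacts [hw.ne₁ h4, hw.ne h4]

end H69.SI
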