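import Mathlib
import Cfsg.Agent.Base
import Cfsg.Agent.Lib.SylInt.Inner
import Cfsg.Agent.Lib.SylInt.Simple
import Cfsg.Agent.Lib.InvChar.Comp1
import Cfsg.Agent.Lib.BG5.Rank

/-! # Cyclic Sylow intersections -/

set_option autoImplicit false

namespace H69.SI

open Subgroup Cfsg H69 Gold H59 H45
open scoped MatrixGroups commutatorElement

universe u

theorem quo_equiv {G G' : Type*} [Group G] [Group G'] (f : G →* G') (hf : Function.Surjective f)
    {R : Subgroup G} (hR : f.ker = R) (K : Subgroup G') [(R.subgroupOf (K.comap f)).Normal] :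
    Nonempty (↥(K.comap f) ⧸ R.subgroupOf (K.comap f) ≃* K) :=
  ⟨(QuotientGroup.quotientMulEquivOfEq (by
      subst hR; ext x; exact ⟨fun h => Subtype.ext h, fun h => congrArg Subtype.val h⟩)).trans
    (QuotientGroup.quotientKerEquivOfSurjective (f.subgroupComap K)
      (f.subgroupComap_surjective_of_surjective K hf))⟩

section
variable {G : Type*} [Group G] [Finite G]

theorem solv_of_cyc (T : Sylow 2 G) (hT : IsCyclic T) : Group.IsSolvable G := by
  rcases Nat.even_or_odd (Nat.card G) with he | ho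
  swap
  · exact H72.isSolvable_of_odd ho
  have hm : (Nat.card G).minFac = 2 := (Nat.minFac_eq_two_iff _).mpr he.two_dvd
  set f := MonoidHom.transferSylow T (hT.normalizer_le_centralizer hm)
  have : Group.IsSolvable f.ker := H72.isSolvable_of_odd
    (Nat.odd_iff.mpr (Nat.two_dvd_ne_zero.mp (MonoidHom.not_dvd_card_ker_transferSylow T _)))
  have : Group.IsNilpotent T := T.isPGroup'.isNilpotent
  exact Group.isSolvable_of_ker_le_range f.ker.subtype f (by simp)

theorem solv_of_cyc' {T M : Subgroup G} (h : IsSylowIn 2 T M) (hT : IsCyclic T) :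
    Group.IsSolvable M := by
  obtain ⟨P, rfl⟩ := h.exists_sylow
  exact solv_of_cyc P
    ((MulEquiv.isCyclic ((P : Subgroup M).equivMapOfInjective _ M.subtype_injective)).2 hT)

theorem exists_ne_syl {K T : Subgroup G} (hK : ¬ Group.IsSolvable K) (h : IsSylowIn 2 T K) :
    ∃ T', IsSylowIn 2 T' K ∧ T ≠ T' := by
  obtain ⟨P, rfl⟩ := h.exists_sylow
  obtain ⟨Q, hQ⟩ := H72.exists_ne_sylow hK P
  exact ⟨_, isSylowIn_map_subtype Q, fun e => hQ (Sylow.ext (map_subtype_inj.1 e))⟩

omit [Finite G] in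
/-- A 2-subgroup normalizing two distinct Sylow 2-subgroups of a subgroup lies in a Sylow
intersection. -/
theorem exists_inter_of_norm {K P T T' : Subgroup G} (hT : IsSylowIn 2 T K) (hT' : IsSylowIn 2 T' K)
    (hne : T ≠ T') (hP : IsPGroup 2 P) (h1 : P ≤ 𝐍(T)) (h2 : P ≤ 𝐍(T')) :
    ∃ S S' : Sylow 2 G, S ≠ S' ∧ T ⊔ P ≤ S ∧ T' ⊔ P ≤ S' := by
  obtain ⟨S, hS⟩ := (isPGroup_sup_of_le_normalizer_left hT.isP hP h1).exists_le_sylow
  obtain ⟨S', hS'⟩ := (isPGroup_sup_of_le_normalizer_left hT'.isP hP h2).exists_le_sylow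
  refine ⟨S, S', fun e => hne ?_, hS, hS'⟩
  subst e
  rw [← hT.max (S ⊓ K) (le_inf (le_sup_left.trans hS) hT.le) inf_le_right (S.isPGroup'.to_le inf_le_left),
    hT'.max (S ⊓ K) (le_inf (le_sup_left.trans hS') hT'.le) inf_le_right (S.isPGroup'.to_le inf_le_left)]

theorem exists_inter_of_cent {K P : Subgroup G} (hK : ¬ Group.IsSolvable K) (hP : IsPGroup 2 P)
    (hc : P ≤ 𝐂(K)) : ∃ S S' : Sylow 2 G, S ≠ S' ∧ P ≤ (S : Subgroup G) ⊓ S' := by
  obtain ⟨T, hT⟩ := exists_isSylowIn 2 K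
  obtain ⟨T', hT', hne⟩ := exists_ne_syl hK hT
  obtain ⟨S, S', h1, h2, h3⟩ := exists_inter_of_norm hT hT' hne hP
    (cents_norm (hc.trans (centralizer_anti hT.le))) (cents_norm (hc.trans (centralizer_anti hT'.le)))
  exact ⟨S, S', h1, le_inf (le_sup_right.trans h2) (le_sup_right.trans h3)⟩

theorem cent_of_cyc {U : Subgroup G} (hU : IsPGroup 2 U) (hc : IsCyclic U) {g : G} (hg : g ∈ 𝐍(U))
    (ho : (orderOf g).Coprime 2) : g ∈ 𝐂(U) := by
  obtain ⟨k, hk⟩ := H72.isPGroup_two_mulAut_of_isCyclic hU (normalizerMonoidHom U ⟨g, hg⟩)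
  have h1 : normalizerMonoidHom U ⟨g, hg⟩ ^ orderOf g = 1 := by
    rw [← map_pow, ← map_one (normalizerMonoidHom U)]
    exact congrArg _ (Subtype.ext (pow_orderOf_eq_one g))
  have h3 := Nat.dvd_gcd (orderOf_dvd_of_pow_eq_one h1) (orderOf_dvd_of_pow_eq_one hk)
  rw [Nat.Coprime.pow_right k ho, Nat.dvd_one, orderOf_eq_one_iff] at h3
  intro u hu
  have := congrArg (fun φ : MulAut U => ((φ ⟨u, hu⟩ : U) : G)) h3
  exact (mul_inv_eq_iff_eq_mul.1 this).symm

theorem cyc_fus (h : H72.CycInt G) (S : Sylow 2 G) : Fus 𝐍((S : Subgroup G)) ⊤ S :=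
  fus_of_no_ess (isSylowIn_top S) fun U hU => by
    obtain ⟨T, h1, rfl⟩ := ess_inter_top hU
    exact ess_not_pow hU fun g hg ho =>
      cent_of_cyc (S.isPGroup'.to_le inf_le_left) (h S T h1) hg.2 ho

theorem cyc_solv_cent (h : H72.CycInt G) {K M : Subgroup G} (hK : ¬ Group.IsSolvable K)
    (hc : M ≤ 𝐂(K)) : Group.IsSolvable M := by
  obtain ⟨P, hP⟩ := exists_isSylowIn 2 M
  obtain ⟨S, T, h1, h2⟩ := exists_inter_of_cent hK hP.isP (hP.le.trans hc)
  have := h S T h1
  exact solv_of_cyc' hP (isCyclic_of_le h2)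

theorem odd_index_of_le (S : Sylow 2 G) {K : Subgroup G} (h : (S : Subgroup G) ≤ K) : Odd K.index :=
  Nat.odd_iff.2 (Nat.two_dvd_ne_zero.1 fun e => S.not_dvd_index (e.trans (index_dvd_of_le h)))

/-- With trivial solvable radical there is a simple component. -/
theorem exists_comp [Nontrivial G] (hR : ∀ N : Subgroup G, N.Normal → Group.IsSolvable N → N = ⊥) :
    ∃ K : Subgroup G, IsComponent K ∧ IsSimpleGroup K :=
  H72.exists_component (hR _ inferInstance H72.isSolvable_oddCore)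
    (hR _ inferInstance (H1.isSolvable_of_isPGroup (H1.isPGroup_pCore (p := 2))))

omit [Finite G] in
theorem normal_of_cent {K : Subgroup G} (hK : IsComponent K) (h : Group.IsSolvable 𝐂(K)) :
    K.Normal := by
  refine ⟨fun k hk g => ?_⟩
  have hK' := H23.IsComponent.map_conj hK g
  rcases H23.IsComponent.eq_or_commutator_eq_bot hK' hK with e | e
  · rw [← e]; exact H72.conj_mem_map_conj hk
  · exact absurd (commutator_eq_bot_iff_le_centralizer.1 e) (H23.IsComponent.not_le_of_isSolvable hK' h)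

theorem rad_quo {R : Subgroup G} [R.Normal] (hR : Group.IsSolvable R)
    (hRmax : ∀ N : Subgroup G, N.Normal → Group.IsSolvable N → N ≤ R) (N : Subgroup (G ⧸ R))
    (hN : N.Normal) (h : Group.IsSolvable N) : N = ⊥ := by
  have := hRmax (N.comap (QuotientGroup.mk' R)) inferInstance
    (H1.isSolvable_of_map_of_ker (QuotientGroup.mk' R) (by
      rwa [map_comap_eq_self_of_surjective (QuotientGroup.mk'_surjective _)]) (by
      rw [QuotientGroup.ker_mk']; exact H2.isSolvable_of_le inf_le_left hR))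
  rw [eq_bot_iff, ← map_comap_eq_self_of_surjective (QuotientGroup.mk'_surjective R) N,
    map_le_iff_le_comap, MonoidHom.comap_bot, QuotientGroup.ker_mk']
  exact this

end

variable {G : Type u} [Group G] [Finite G]

theorem KS.cyc_main (ks : KS.{u}) [Nontrivial G] (h : H72.CycInt G)
    (hR : ∀ N : Subgroup G, N.Normal → Group.IsSolvable N → N = ⊥) :
    ∃ K : Subgroup G, K.Normal ∧ Odd K.index ∧ IsSimpleGroup K ∧ ¬ IsMulCommutative K ∧
      (L2e K ∨ Lie.IsoSuzuki K ∨ U3e K ∨ L2o K ∨ Spor.IsoJ1 K) := by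
  obtain ⟨K, hK, hs⟩ := exists_comp hR
  have hns := H72.not_isSolvable_of_component hK
  have hn := H72.not_comm_of_component hK
  have hC := cyc_solv_cent h hns le_rfl
  have hN := normal_of_cent hK hC
  obtain ⟨S⟩ : Nonempty (Sylow 2 G) := inferInstance
  refine ⟨K, hN, odd_index_of_le S (ks.inner_of_fus hs hn le_top (normal_iff_top_le_normalizer.1 hN)
    (by rw [top_inf_eq]; exact hR _ inferInstance hC) (isSylowIn_top S) (cyc_fus h S)), hs, hn,
    ks.list_r1 hn fun S T hne _ => H49.pRankLE_one_of_isCyclic two_pos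
      (h.of_injective K.subtype_injective S T hne)⟩

end H69.SI
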