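import Mathlib
import Cfsg.Agent.Base
import Cfsg.Agent.Lib.SylInt.Cyc
import Cfsg.Agent.Lib.CompW.RankOne
import Cfsg.Agent.Lib.Core.CoprimeExt

/-! # 2-groups whose noncentral elements act freely -/

set_option autoImplicit false

namespace H69.SI

open Subgroup Cfsg H69 Gold H45
open scoped commutatorElement

theorem uniqInv_gens {R : Type*} [Group R] [Finite R] (h : H41.UniqInv R) (hR : IsPGroup 2 R) :
    ∃ a b : R, (zpowers a).Normal ∧ ∀ r, r ∈ zpowers a ∨ r * b⁻¹ ∈ zpowers a := by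
  rcases h.cyclic_or_quaternion hR with h | ⟨n, ⟨e⟩⟩
  · obtain ⟨a, ha⟩ := h.exists_generator
    exact ⟨a, 1, ⟨fun _ _ _ => ha _⟩, fun r => Or.inl (ha r)⟩
  · have key : ∀ i, e.symm (QuaternionGroup.a i) ∈ zpowers (e.symm (QuaternionGroup.a 1)) := fun i =>
      ⟨(i.val : ℤ), by
        simp only [zpow_natCast]
        rw [← map_pow, QuaternionGroup.a_one_pow, ZMod.natCast_zmod_val]⟩
    refine ⟨e.symm (QuaternionGroup.a 1), e.symm (QuaternionGroup.xa 0), ⟨?_⟩, fun r => ?_⟩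
    · rintro _ ⟨k, rfl⟩ g
      simp only [← conj_zpow]
      refine zpow_mem ?_ k
      obtain ⟨g, rfl⟩ := e.symm.surjective g
      rw [← map_inv, ← map_mul, ← map_mul]
      cases g <;> exact key _
    · obtain ⟨r, rfl⟩ := e.symm.surjective r
      rw [← map_inv, ← map_mul]
      cases r
      · exact Or.inl (key _)
      · exact Or.inr (key _)

theorem cyc_der {S R : Type*} [Group S] [Group R] (f : S →* R) (hf : Function.Surjective f)
    (hk : f.ker ≤ center S) {a b : R} (hn : (zpowers a).Normal)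
    (h : ∀ r, r ∈ zpowers a ∨ r * b⁻¹ ∈ zpowers a) : IsCyclic (_root_.commutator S) := by
  obtain ⟨c, rfl⟩ := hf a
  obtain ⟨b, rfl⟩ := hf b
  set C := (zpowers (f c)).comap f with hC
  have h1 : ∀ x ∈ C, ∃ i : ℤ, ∃ k ∈ center S, x = c ^ i * k := by
    rintro x ⟨i, hi⟩
    refine ⟨i, (c ^ i)⁻¹ * x, hk ?_, by group⟩
    rw [MonoidHom.mem_ker, map_mul, map_inv, map_zpow, inv_mul_eq_one]; exact hi
  have h2 : ∀ x ∈ C, ∀ y ∈ C, x * y = y * x := fun x hx y hy => by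
    obtain ⟨i, k, hk, rfl⟩ := h1 x hx
    obtain ⟨j, l, hl, rfl⟩ := h1 y hy
    exact ((Commute.zpow_zpow_self c i j).mul_right (mem_center_iff.1 hl _)).mul_left
      (mem_center_iff.1 hk _).symm
  have h3 : ∀ x ∈ C, ∀ g, g * x * g⁻¹ ∈ C := fun x hx g => (hn.comap f).conj_mem x hx g
  have hc : c ∈ C := mem_zpowers (f c)
  have h4 : ∀ x ∈ C, ⁅x, b⁆ ∈ zpowers ⁅c, b⁆ := fun x hx => by
    obtain ⟨i, k, hk, rfl⟩ := h1 x hx
    refine ⟨i, ?_⟩
    have e1 : Commute c (b * c⁻¹ * b⁻¹) := h2 _ hc _ (h3 _ (inv_mem hc) b)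
    have e2 := mem_center_iff.1 hk b
    calc ⁅c, b⁆ ^ i = (c * (b * c⁻¹ * b⁻¹)) ^ i := by rw [commutatorElement_def]; group
      _ = c ^ i * (b * k) * k⁻¹ * (c ^ i)⁻¹ * b⁻¹ := by rw [e1.mul_zpow, conj_zpow]; group
      _ = _ := by rw [e2, commutatorElement_def]; group
  have h5 : ∀ s, s ∈ C ∨ ∃ x ∈ C, s = x * b := fun s => (h (f s)).imp id fun e =>
    ⟨s * b⁻¹, by rw [hC, mem_comap, map_mul, map_inv]; exact e, by group⟩
  have h6 : ∀ x ∈ C, ∀ y ∈ C, ⁅x, y * b⁆ = ⁅x, b⁆ := fun x hx y hy => by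
    have e := h2 y hy _ (mul_mem hx (h3 _ (inv_mem hx) b))
    calc ⁅x, y * b⁆ = x * y * (b * x⁻¹ * b⁻¹) * y⁻¹ := by rw [commutatorElement_def]; group
      _ = y * (x * (b * x⁻¹ * b⁻¹)) * y⁻¹ := by rw [h2 x hx y hy]; group
      _ = _ := by rw [e, commutatorElement_def]; group
  refine isCyclic_of_le (H' := zpowers ⁅c, b⁆) (commutator_le.2 fun s _ t _ => ?_)
  rcases h5 s with hs | ⟨x, hx, rfl⟩ <;> rcases h5 t with ht | ⟨y, hy, rfl⟩
  · rw [commutatorElement_eq_one_iff_mul_comm.2 (h2 s hs t ht)]; exact one_mem _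
  · rw [h6 s hs y hy]; exact h4 s hs
  · rw [← commutatorElement_inv t, h6 t ht x hx]; exact inv_mem (h4 t ht)
  · have e := h2 _ (inv_mem hy) _ (h3 _ (mul_mem hy (inv_mem hx)) b)
    have : ⁅x * b, y * b⁆ = ⁅x * y⁻¹, b⁆ := by
      calc ⁅x * b, y * b⁆ = x * (b * (y * x⁻¹) * b⁻¹ * y⁻¹) := by rw [commutatorElement_def]; group
        _ = _ := by rw [← e, commutatorElement_def]; group
    rw [this]; exact h4 _ (mul_mem hx (inv_mem hy))

variable {G : Type*} [Group G] [Finite G]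

omit [Finite G] in
theorem isCyclic_der_iff (S : Subgroup G) :
    IsCyclic (_root_.commutator S) ↔ IsCyclic (⁅S, S⁆ : Subgroup G) := by
  rw [← S.map_subtype_commutator]
  exact MulEquiv.isCyclic ((_root_.commutator S).equivMapOfInjective _ S.subtype_injective)

/-- If noncentral elements of the 2-group `S` fix in the odd group `X` only what `S` fixes, and
`S'` is not cyclic, then `S` centralizes `X`. -/
theorem cent_of_free {S : Subgroup G} (hS : IsPGroup 2 S) (hc : ¬ IsCyclic (⁅S, S⁆ : Subgroup G))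
    (X : Subgroup G) (ho : ¬ 2 ∣ Nat.card X) (hn : S ≤ 𝐍(X))
    (h : ∀ s ∈ S, s ∉ 𝐂(S) → X ⊓ 𝐂[s] ≤ 𝐂(S)) : X ≤ 𝐂(S) := by
  induction X using WellFoundedLT.induction with
  | ind X ih =>
  set φ : S →* MulAut X := (normalizerMonoidHom X).comp (inclusion hn) with hφ
  have hφ' : ∀ (s : S) (x : X), φ s x = x ↔ (x : G) ∈ 𝐂[(s : G)] := fun s x => by
    rw [mem_centralizer_singleton_iff, Subtype.ext_iff]
    exact mul_inv_eq_iff_eq_mul.trans eq_comm
  by_cases hk : φ.ker ≤ center S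
  swap
  · obtain ⟨s, hs, hs'⟩ := SetLike.not_le_iff_exists.1 hk
    refine le_trans (fun x hx => mem_inf.2 ⟨hx, (hφ' s ⟨x, hx⟩).1 ?_⟩) (h s s.2 fun e => hs'
      (mem_center_iff.2 fun g => Subtype.ext (e g g.2)))
    rw [MonoidHom.mem_ker.1 hs]; rfl
  have hR : IsPGroup 2 φ.range := hS.of_surjective _ φ.rangeRestrict_surjective
  by_cases hr : PRankLE 2 1 φ.range
  · obtain ⟨a, b, h1, h2⟩ := uniqInv_gens (H3.CW.uniqInv_of_pRankLE hR hr) hR
    exact absurd ((isCyclic_der_iff S).1 (cyc_der _ φ.rangeRestrict_surjective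
      (by rwa [MonoidHom.ker_rangeRestrict]) h1 h2)) hc
  simp only [PRankLE, not_forall] at hr
  obtain ⟨W, h1, h2, h3⟩ := hr
  obtain ⟨k, hk'⟩ := (hR.to_subgroup W).exists_card_eq
  have := H2.ext_le_of_forall_fix_le (φ := φ.range.subtype.comp W.subtype) (K := ⊤)
    (M := (𝐂(S)).subgroupOf X) h1 (fun e => h3 (H49.card_le_of_isCyclic_of_pow_eq_one two_pos e h2))
    (fun _ _ _ => mem_top _) (by
      rw [hk', card_top]; exact ((Nat.Prime.coprime_iff_not_dvd Nat.prime_two).2 ho).pow_left k)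
    fun a ha x _ e => by
      obtain ⟨s, hs⟩ := a.1.2
      have e' : (x : G) ∈ 𝐂[(s : G)] := (hφ' s x).1 (by rw [hs]; exact e)
      by_cases hz : (s : G) ∈ 𝐂(S)
      · refine ih (X ⊓ 𝐂[(s : G)]) (lt_of_le_of_ne inf_le_left fun e2 => ha ?_)
          (fun e2 => ho (e2.trans (card_dvd_of_le inf_le_left)))
          (le_normalizer_inf hn (le_normalizer_of_le fun t ht =>
            mem_centralizer_singleton_iff.2 (hz t ht)))
          (fun t ht ht' => le_trans (inf_le_inf_right _ inf_le_left) (h t ht ht')) ⟨x.2, e'⟩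
        refine Subtype.ext (Subtype.ext ?_)
        rw [← hs]
        ext y
        exact congrArg Subtype.val ((hφ' s y).2 (inf_eq_left.1 e2 y.2))
      · exact h s s.2 hz ⟨x.2, e'⟩
  exact fun x hx => this (mem_top (⟨x, hx⟩ : X))

end H69.SI
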