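import Mathlib
import Cfsg.Agent.Base
import Cfsg.Agent.Lib.SylInt.Gen
import Cfsg.Agent.Lib.SylInt.Cover
import Cfsg.Agent.Lib.InvChar.AbSE

/-! # Central Sylow intersections: the structure modulo the core -/

set_option autoImplicit false

namespace H69.SI

open Subgroup Cfsg H69 Gold H59 H45
open scoped MatrixGroups commutatorElement

universe u

variable {G : Type u} [Group G] [Finite G]

theorem CI.inter (h : CI G) {S T : Sylow 2 G} (hne : S ≠ T) :
    (S : Subgroup G) ⊓ T ≤ 𝐂((S : Subgroup G)) := fun s hs => by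
  obtain ⟨U, hU⟩ := h S T hne
  rw [map_subtype_center] at hU
  obtain ⟨g, -, e⟩ := (isSylowIn_top S).conj (isSylowIn_top U)
  have h1 := hU hs
  rw [← e, ← cj_centralizer, ← cj_inf] at h1
  obtain ⟨z, hz, rfl⟩ := mem_cj'.1 h1
  obtain ⟨n, hn, e⟩ := (h.fus S).conj hz.1 (mem_top g) hs.1
  rw [← e]
  exact conj_mem_of_mem_normalizer (normalizer_le_normalizer_centralizer _ hn.2) hz.2

omit [Finite G] in
theorem ci_of_inter (h : ∀ S T : Sylow 2 G, S ≠ T → (S : Subgroup G) ⊓ T ≤ 𝐂((S : Subgroup G))) :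
    CI G := fun S T hne => ⟨S, by rw [map_subtype_center]; exact le_inf inf_le_left (h S T hne)⟩

theorem CI.of_surjective (h : CI G) {G' : Type*} [Group G'] {f : G →* G'}
    (hf : Function.Surjective f) : CI G' := fun S' T' hne => by
  obtain ⟨S, T, h1, h2⟩ := H72.exists_lift_inter hf hne
  refine ⟨S.mapSurjective hf, ?_⟩
  rw [h2, map_subtype_center]
  rintro _ ⟨x, hx, rfl⟩
  refine ⟨mem_map_of_mem f hx.1, ?_⟩
  rintro _ ⟨y, hy, rfl⟩
  rw [← map_mul, ← map_mul, h.inter h1 hx y hy]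

theorem CI.subgroup (h : CI G) (H : Subgroup G) : CI H := ci_of_inter fun S' T' hne => by
  obtain ⟨S, T, h1, h2, h3⟩ := exists_inter_of_norm (isSylowIn_map_subtype S') (isSylowIn_map_subtype T')
    (fun e => hne (Sylow.ext (map_subtype_inj.1 e))) IsPGroup.of_bot bot_le bot_le
  rw [sup_bot_eq] at h2 h3
  intro x hx y hy
  exact Subtype.ext (h.inter h1 ⟨h2 (mem_map_of_mem _ hx.1), h3 (mem_map_of_mem _ hx.2)⟩ y
    (h2 (mem_map_of_mem _ hy)))

theorem CI.cent (h : CI G) {K P : Subgroup G} (hK : ¬ Group.IsSolvable K) (hP : IsPGroup 2 P)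
    (hc : P ≤ 𝐂(K)) : ∃ U : Sylow 2 G, P ≤ U ∧ P ≤ 𝐂((U : Subgroup G)) := by
  obtain ⟨S, T, h1, h2⟩ := exists_inter_of_cent hK hP hc
  exact ⟨S, h2.trans inf_le_left, h2.trans (h.inter h1)⟩

theorem TypeI.der_not_cyclic {N A T : Subgroup G} (h : TypeI N A T) (hT : ¬ T ≤ 𝐂(T)) :
    ¬ IsCyclic (⁅T, T⁆ : Subgroup G) := fun hc => by
  have hle : ⁅T, T⁆ ≤ T := commutator_le_of_le le_rfl le_rfl
  obtain ⟨a, ha, h2⟩ := exists_orderOf_eq_prime (h.syl.isP.to_le hle)
    fun e => hT (le_centralizer_of_commutator_eq_bot e)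
  have ha1 : a ≠ 1 := fun e => by simp [e] at h2
  have haA := h.inv a (hle ha) (by rw [← pow_two, ← h2, pow_orderOf_eq_one])
  obtain ⟨b, hb, hb1, hba⟩ := exists_three h.four 1 a
  obtain ⟨g, hg, -, rfl⟩ := h.trans_odd haA ha1 hb hb1
  have hgT := (h.norm_iff' hg.1).1 hg.2
  exact hba (H72.eq_of_mul_self_of_isCyclic hc (conj_mem_of_mem_normalizer
    (le_normalizer_commutator (zpowers_le.2 hgT) (zpowers_le.2 hgT) (mem_zpowers g)) ha) ha
    (by rw [← h2]; exact (MulAut.conj g).orderOf_eq a) h2)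

omit [Finite G] in
theorem comm_iff_le_cent {T : Subgroup G} : IsMulCommutative T ↔ T ≤ 𝐂(T) :=
  ⟨fun h a ha b hb => congrArg Subtype.val (h.1.1 ⟨b, hb⟩ ⟨a, ha⟩),
    fun h => ⟨⟨fun a b => Subtype.ext (h b.2 a a.2)⟩⟩⟩

theorem ben_not_comm (h : Lie.IsoSuzuki G ∨ U3e G) (S : Sylow 2 G) :
    ¬ IsMulCommutative (S : Subgroup G) := by
  rcases h with h | ⟨F, _, _, n, h1, h2, ⟨e⟩⟩
  · exact H72.not_comm_sylow_of_isoSuzuki h S
  · exact H72.not_comm_sylow_of_psu (by omega) h2 e S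

theorem KS.sc_simple (ks : KS.{u}) [IsSimpleGroup G] (hn : ¬ IsMulCommutative G) (S : Sylow 2 G)
    (hsc : SC (zo (S : Subgroup G)) ⊤) :
    (∃ T : Sylow 2 G, S ≠ T ∧ ∃ t ∈ (S : Subgroup G) ⊓ T, t ≠ 1 ∧ ∀ s ∈ S, s ≠ 1 →
      ∃ n ∈ 𝐍((S : Subgroup G)), n * t * n⁻¹ = s) ∨ L2e G ∨
    ((Lie.IsoSuzuki G ∨ U3e G) ∧ ¬ IsCyclic (⁅(S : Subgroup G), (S : Subgroup G)⁆ : Subgroup G)) := by
  have hns := simple_not_solv (top_simple (G := G)) (top_not_comm hn)
  have hS1 := syl_ne_bot ks.k.ft hns (isSylowIn_top S)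
  have hZ := zo_ne_bot S.isPGroup' hS1
  rcases ks.gs G ⊤ top_simple (top_not_comm hn) _ (ea_zo _) hZ hsc with ⟨T, h⟩ | h
  · obtain rfl := h.eq_of_syl (isSylowIn_top S) fun e => hZ (by
      rw [eq_bot_iff, ← e]; exact le_inf h.le (zo_le _))
    exact Or.inr ((ks.bse G hn _ h.se).imp_right fun hb => ⟨hb, TypeI.der_not_cyclic h
      fun e => ben_not_comm hb S (comm_iff_le_cent.2 e)⟩)
  · have e := h.syl.max S (zo_le _) le_top S.isPGroup'
    rw [← e] at h
    by_cases hC : ∀ t ∈ S, orderOf t = 2 → 𝐂[t] ≤ 𝐍((S : Subgroup G))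
    · refine Or.inr ((ks.bse G hn _ (H72.se_of_comm_sylow S h.ea.1 (even_iff_two_dvd.2 (by
        rw [← card_top]; exact (isSylowIn_top S).dvd_card_iff.2 hS1)) (fun e => ?_) le_rfl hC)).imp_right
        fun hb => (ben_not_comm hb S h.ea.1).elim)
      have := normalizer_eq_top_iff.1 e
      exact hns (H2.isSolvable_of_le le_rfl (by
        have := H72.isSolvable_of_sylow_normal S; infer_instance))
    · push Not at hC
      obtain ⟨t, ht, h2, hC⟩ := hC
      obtain ⟨g, hg, hg'⟩ := SetLike.not_le_iff_exists.1 hC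
      have ht1 : t ≠ 1 := fun e => by simp [e] at h2
      refine Or.inl ⟨g • S, fun e => hg' (Sylow.smul_eq_iff_mem_normalizer.1 e.symm), t, ⟨ht, ?_⟩, ht1,
        fun s hs hs1 => ?_⟩
      · have := H72.conj_mem_smul_sylow (g := g) ht
        rwa [mem_centralizer_singleton_iff.1 hg, mul_inv_cancel_right] at this
      · obtain ⟨n, hn, e⟩ := h.trans t ht ht1 s hs hs1
        exact ⟨n, hn.2, e⟩

theorem KS.ci_quasi (ks : KS.{u}) (hX : IsQuasisimple G) (h : CI G) (hZ : IsPGroup 2 (center G))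
    (P : Sylow 2 G) (hP : ¬ IsMulCommutative (P : Subgroup G)) :
    Nonempty (G ≃* SL(2, ZMod 5)) ∨ ((Lie.IsoSuzuki (G ⧸ center G) ∨ U3e (G ⧸ center G)) ∧
      ¬ IsCyclic (⁅(P : Subgroup G), (P : Subgroup G)⁆ : Subgroup G)) := by
  have hf := QuotientGroup.mk'_surjective (center G)
  set f := QuotientGroup.mk' (center G) with hfd
  have hk : f.ker = center G := QuotientGroup.ker_mk' _
  have hc : ∀ T : Sylow 2 G, ((T : Subgroup G).map f).comap f = T := fun T => by
    rw [comap_map_eq, hk, sup_eq_left]; exact hZ.le_sylow_of_normal T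
  have := hX.2
  rcases ks.sc_simple (H23.IsQuasisimple.quotient_not_isMulCommutative hX) (P.mapSurjective hf)
    ((h.of_surjective hf).sc _) with ⟨T, h1, t, ht, -, h2⟩ | h1 | ⟨h1, h2⟩
  · obtain ⟨T, rfl⟩ := Sylow.mapSurjective_surjective hf 2 T
    obtain ⟨t, rfl⟩ := hf t
    have h3 : t ∈ 𝐂((P : Subgroup G)) := h.inter (T := T) (fun e => h1 (by rw [e]))
      ⟨(hc P).le ht.1, (hc T).le ht.2⟩
    refine absurd (comm_iff_le_cent.2 fun s hs => ?_) hP
    by_cases hs1 : f s = 1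
    · exact fun x _ => mem_center_iff.1 (hk ▸ hs1 : s ∈ center G) x
    obtain ⟨n, hn, e⟩ := h2 _ (mem_map_of_mem f hs) hs1
    obtain ⟨n, rfl⟩ := hf n
    have h4 : n ∈ 𝐍((P : Subgroup G)) := by
      rw [← hc P]; exact le_normalizer_comap f hn
    have h5 : (n * t * n⁻¹)⁻¹ * s ∈ center G := by
      rw [← hk, MonoidHom.mem_ker, map_mul, map_inv, map_mul, map_mul, map_inv, e, inv_mul_cancel]
    rw [← mul_inv_cancel_left (n * t * n⁻¹) s]
    exact mul_mem (conj_mem_of_mem_normalizer (normalizer_le_normalizer_centralizer _ h4) h3)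
      fun x _ => mem_center_iff.1 h5 x
  · refine (h1.cover hf hk.le hX.1.1).elim (fun hi => absurd (ea_of_sq fun s hs => hi ?_).1 hP) Or.inl
    rw [map_mul, map_one]
    obtain ⟨k, hk⟩ := El2.of_mem P.isPGroup' hs
    exact h1.sq ⟨k, by rw [← map_pow, hk, map_one]⟩
  · refine Or.inr ⟨h1, fun e => h2 ?_⟩
    rw [Sylow.coe_mapSurjective, ← map_commutator]
    exact H72.isCyclic_map f e

theorem Od_comp (hO : pPrimeCore 2 G = ⊥) {K : Subgroup G} (hK : IsComponent K) : Od K = ⊥ :=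
  le_bot_iff.1 (hO ▸ H1.map_subtype_pPrimeCore_le_of_isSubnormal hK.1)

theorem comm_of_sylow {S U : Sylow 2 G} (h : (U : Subgroup G) ≤ 𝐂((U : Subgroup G))) :
    (S : Subgroup G) ≤ 𝐂((S : Subgroup G)) := by
  obtain ⟨g, -, e⟩ := (isSylowIn_top U).conj (isSylowIn_top S)
  rw [← e, ← cj_centralizer]; exact cj_mono g h

theorem KS.ci_uniq (ks : KS.{u}) (hO : pPrimeCore 2 G = ⊥) (h : CI G) (S : Sylow 2 G)
    (hS : ¬ IsMulCommutative (S : Subgroup G)) {K L : Subgroup G} (hK : IsComponent K)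
    (hL : IsComponent L) : K = L := by
  by_contra hne
  have hKs := H72.not_isSolvable_of_component hK
  obtain ⟨P, hP⟩ := exists_isSylowIn 2 K
  obtain ⟨U, h1, h2⟩ := h.cent (H72.not_isSolvable_of_component hL) hP.isP (hP.le.trans
    (le_centralizer_of_commutator_eq_bot (H23.IsComponent.commutator_eq_bot_of_ne hK hL hne)))
  have h3 : (U : Subgroup G) ≤ 𝐍(K) := fun u hu => by
    rcases H23.IsComponent.eq_or_commutator_eq_bot (H23.IsComponent.map_conj hK u) hK with e | e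
    · exact cj_eq_self_iff.1 e
    · obtain ⟨P', hP', hne⟩ := exists_ne_syl hKs hP
      obtain ⟨g, hg, rfl⟩ := hP.conj hP'
      refine absurd (cj_eq_of_mem_centralizer (centsC.1 (le_trans ?_
        (le_centralizer_of_commutator_eq_bot e)) hg)).symm hne
      rw [← cj_eq_of_mem_centralizer (centsC.1 h2 hu)]
      exact cj_mono u hP.le
  obtain ⟨V, h4, h5⟩ := h.cent hKs (U.isPGroup'.to_le (inf_le_left (b := 𝐂(K)))) inf_le_right
  have h6 : ∀ u ∈ (U : Subgroup G), ∃ a ∈ P, ∃ c ∈ (U : Subgroup G) ⊓ 𝐂(K), u = a * c := fun u hu => by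
    obtain ⟨a, ha, e⟩ := x1 ks.k (Od_comp hO hK) hP (h2.trans (centralizer_anti h1)) (h3 hu)
      (centsC.1 h2 hu) (El2.of_mem U.isPGroup' hu)
    exact ⟨a, ha, _, mem_inf.2 ⟨mul_mem (inv_mem (h1 ha)) hu, e⟩, by group⟩
  refine hS (comm_iff_le_cent.2 (comm_of_sylow (U := U) fun u hu => ?_))
  obtain ⟨a, ha, c, hc, rfl⟩ := h6 u hu
  refine mul_mem (h2 ha) fun v hv => ?_
  obtain ⟨b, hb, d, hd, rfl⟩ := h6 v hv
  rw [mul_assoc, h5 hc d (h4 hd), ← mul_assoc, ← h2 hb c hc.1, mul_assoc]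

omit [Finite G] in
theorem cent_map_eq_bot {L : Subgroup G} [L.Normal] (hL : ⁅L, L⁆ = L) :
    𝐂(L.map (QuotientGroup.mk' 𝐂(L))) = ⊥ := by
  rw [eq_bot_iff]
  intro x hx
  obtain ⟨x, rfl⟩ := QuotientGroup.mk'_surjective _ x
  rw [mem_bot, QuotientGroup.mk'_apply, QuotientGroup.eq_one_iff]
  refine le_centralizer_of_commutator_eq_bot (H23.commutator_eq_bot_of_perfect (H := zpowers x) hL
    (commutator_eq_bot_of_le_centralizer (commutator_le.2 fun a ha b hb => ?_))) (mem_zpowers x)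
  rw [← QuotientGroup.eq_one_iff, ← QuotientGroup.mk'_apply, map_commutatorElement,
    commutatorElement_eq_one_iff_mul_comm]
  exact (zpowers_le.2 (show x ∈ (𝐂(L.map (QuotientGroup.mk' 𝐂(L)))).comap _ from hx) ha _
    (mem_map_of_mem _ hb)).symm

omit [Finite G] in
theorem simple_map_cent {L : Subgroup G} [L.Normal] (hL : IsQuasisimple L) :
    IsSimpleGroup (L.map (QuotientGroup.mk' 𝐂(L))) ∧
      ¬ IsMulCommutative (L.map (QuotientGroup.mk' 𝐂(L))) := by
  have h := H23.IsQuasisimple.map hL (QuotientGroup.mk' 𝐂(L)) fun e => by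
    rw [Subgroup.map_eq_bot_iff, QuotientGroup.ker_mk'] at e
    exact H23.IsQuasisimple.not_le_centralizer hL e
  refine ⟨H23.IsQuasisimple.isSimpleGroup_of_center_eq_bot h ?_, H23.IsQuasisimple.not_isMulCommutative h⟩
  rw [← map_subtype_eq_bot_iff, map_subtype_center,
    cent_map_eq_bot (H23.IsQuasisimple.commutator_self hL), inf_bot_eq]

/-- A Sylow subgroup inside `L C` lies in `L Q` if `Q` is a normal Sylow subgroup of `C`. -/
theorem le_sup_of_syl {L C Q : Subgroup G} [L.Normal] [Q.Normal] (S : Sylow 2 G)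
    (hQ : IsSylowIn 2 Q C) (h : (S : Subgroup G) ≤ L ⊔ C) : (S : Subgroup G) ≤ Q ⊔ L := by
  have h1 : IsSylowIn 2 ((S : Subgroup G) ⊓ (Q ⊔ L)) (Q ⊔ L) :=
    (isSylowIn_top S).inf_normal le_top (normal_iff_top_le_normalizer.1 inferInstance)
  have h2 := h1.trans_of_not_dvd (L := (Q ⊔ L) ⊔ C) le_sup_left fun e => hQ.not_dvd_relIndex (by
    rw [H3.relIndex_sup_left_of_le_normalizer
      (le_top.trans (normal_iff_top_le_normalizer.1 inferInstance))] at e
    exact e.trans (relIndex_dvd_of_le_left C le_sup_left))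
  exact inf_eq_left.1 (h2.max S inf_le_left
    (h.trans (sup_le_sup_right le_sup_right C)) S.isPGroup').symm

theorem KS.ci_core (ks : KS.{u}) (hO : pPrimeCore 2 G = ⊥) (h : CI G) (S : Sylow 2 G)
    (hS : ¬ IsMulCommutative (S : Subgroup G)) (hn : ¬ (S : Subgroup G).Normal) :
    ∃ L : Subgroup G, IsComponent L ∧ L.Normal ∧ (S : Subgroup G) ≤ pCore 2 G ⊔ L ∧
      pCore 2 G ≤ 𝐂(pCore 2 G) ∧ (Nonempty (L ≃* SL(2, ZMod 5)) ∨
        ((Lie.IsoSuzuki (L ⧸ center L) ∨ U3e (L ⧸ center L)) ∧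
          ¬ IsCyclic (⁅(S : Subgroup G), (S : Subgroup G)⁆ : Subgroup G))) := by
  have hQS := H1.pCore_le_sylow S
  have hF := H1.fitting_eq_pCore_of_pPrimeCore_eq_bot hO
  have hQ : pCore 2 G ≤ 𝐂((S : Subgroup G)) := by
    obtain ⟨g, hg⟩ : ∃ g, g ∉ 𝐍((S : Subgroup G)) := by
      by_contra e
      push Not at e
      exact hn (normalizer_eq_top_iff.1 (eq_top_iff.2 fun g _ => e g))
    exact (le_inf hQS (H1.pCore_le_sylow (g • S))).trans
      (h.inter fun e => hg (Sylow.smul_eq_iff_mem_normalizer.1 e.symm))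
  have hC : (S : Subgroup G) ⊓ 𝐂(layer G) ≤ pCore 2 G := by
    rw [← hF]
    refine le_trans ?_ H23.centralizer_fStar_le_fitting
    rw [H23.fStar_def, centralizer_sup, hF]
    exact le_inf inf_le_right (inf_le_left.trans (centsC.1 hQ))
  obtain ⟨L, hL⟩ : ∃ L : Subgroup G, IsComponent L := by
    by_contra e
    push Not at e
    rw [H23.layer_eq_bot_iff.2 e, centralizer_bot, inf_top_eq] at hC
    exact hn (le_antisymm hC hQS ▸ inferInstance)
  have hE : layer G = L := le_antisymm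
    (H23.layer_le_iff.2 fun K hK => (ks.ci_uniq hO h S hS hK hL).le) (H23.IsComponent.le_layer hL)
  have hN : L.Normal := hE ▸ inferInstance
  rw [hE] at hC
  have hQL : pCore 2 G ≤ 𝐂(L) := hE ▸ centsC.1 (H23.layer_le_centralizer_pCore 2)
  have hf := QuotientGroup.mk'_surjective 𝐂(L)
  obtain ⟨h1, h2⟩ := simple_map_cent hL.2
  have h3 := ks.inner_of_fus h1 h2 le_top (normal_iff_top_le_normalizer.1 (hN.map _ hf))
    (by rw [top_inf_eq, cent_map_eq_bot (H23.IsComponent.commutator_self hL)])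
    (isSylowIn_top (S.mapSurjective hf)) ((h.of_surjective hf).fus _)
  rw [Sylow.coe_mapSurjective, map_le_iff_le_comap, comap_map_eq, QuotientGroup.ker_mk'] at h3
  have h4 : (S : Subgroup G) ≤ pCore 2 G ⊔ L := le_sup_of_syl S (by
    have := (isSylowIn_top S).inf_normal le_top (normal_iff_top_le_normalizer.1 (inferInstance : (𝐂(L)).Normal))
    rwa [le_antisymm hC (le_inf hQS hQL)] at this) h3
  obtain ⟨P, hP⟩ := ((isSylowIn_top S).inf_normal le_top
    (normal_iff_top_le_normalizer.1 hN)).exists_sylow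
  refine ⟨L, hL, hN, h4, hQ.trans (centralizer_anti hQS), (ks.ci_quasi hL.2 (h.subgroup L) ?_ P
    fun e => hS (comm_iff_le_cent.2 ?_)).imp_right (And.imp_right fun e e' => e ?_)⟩
  · rw [← isPGroup_map_subtype_iff, map_subtype_center]
    exact H1.isPGroup_pCore.to_le (hF ▸ H23.inf_centralizer_le_fitting hL.1)
  · have h5 : pCore 2 G ⊔ L ⊓ S = S := by
      rw [← dedekind_left (le_top.trans (normal_iff_top_le_normalizer.1 inferInstance)) hQS]
      exact inf_eq_right.2 h4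
    have h6 : L ⊓ S ≤ 𝐂(L ⊓ (S : Subgroup G)) := by
      rw [inf_comm, ← hP]; exact comm_iff_le_cent.1 inferInstance
    rw [← h5, centralizer_sup]
    exact sup_le (le_inf (hQ.trans (centralizer_anti hQS)) (hQ.trans (centralizer_anti inf_le_right)))
      (le_inf (inf_le_right.trans (centsC.1 hQ)) h6)
  · have := H72.isCyclic_comap L.subtype_injective e'
    refine isCyclic_of_le (H' := (⁅(S : Subgroup G), (S : Subgroup G)⁆).comap L.subtype) ?_
    rw [← map_le_iff_le_comap, map_commutator, hP]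
    exact commutator_mono inf_le_left inf_le_left

end H69.SI
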