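import Mathlib
import Cfsg.Agent.Base
import Cfsg.Agent.Lib.SylInt.CI
import Cfsg.Agent.Lib.BG6.PLength

/-! # Central Sylow intersections: lifting from the quotient by the core -/

set_option autoImplicit false

namespace H69.SI

open Subgroup Cfsg H69 Gold H59 H45
open scoped MatrixGroups commutatorElement

universe u

variable {G : Type u} [Group G] [Finite G]

omit [Finite G] in
theorem inj_on_two {G' : Type*} [Group G'] {f : G →* G'} (hk : OddS f.ker) {S : Subgroup G}
    (hS : IsPGroup 2 S) {a b : G} (ha : a ∈ S) (hb : b ∈ S) (h : f a = f b) : a = b :=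
  inv_mul_eq_one.1 (hk.eq_one (by rw [MonoidHom.mem_ker, map_mul, map_inv, h, inv_mul_cancel])
    (El2.of_mem hS (mul_mem (inv_mem ha) hb)))

theorem comp_not_cent {L : Subgroup G} (hL : ¬ Group.IsSolvable L) [hN : L.Normal] (S : Sylow 2 G) :
    ¬ (S : Subgroup G) ≤ 𝐂(L) := fun h => by
  have h1 := (isSylowIn_top S).inf_normal le_top (normal_iff_top_le_normalizer.1 hN)
  obtain ⟨P', hP', hne⟩ := exists_ne_syl hL h1
  obtain ⟨g, hg, rfl⟩ := h1.conj hP'
  exact hne (cj_eq_of_mem_centralizer (centsC.1 (inf_le_left.trans h) hg)).symm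

/-- Lifting a normal component when the Sylow 2-subgroups centralize the kernel. -/
theorem exists_comp_lift {G' : Type u} [Group G'] [Finite G'] {f : G →* G'}
    (hf : Function.Surjective f) (S : Sylow 2 G) (hS : (S : Subgroup G) ≤ 𝐂(f.ker))
    {K : Subgroup G'} (hK : IsComponent K) [K.Normal] :
    ∃ L : Subgroup G, IsComponent L ∧ L.Normal ∧ L.map f = K := by
  have h1 : K ≤ (𝐂(f.ker)).map f := by
    have := (inferInstance : (𝐂(f.ker)).Normal).map f hf
    refine (H23.IsComponent.le_or_commutator_eq_bot hK this.isSubnormal).resolve_right fun e =>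
      comp_not_cent (H72.not_isSolvable_of_component hK) (S.mapSurjective hf) ?_
    exact (map_mono hS).trans (centsC.1 (le_centralizer_of_commutator_eq_bot e))
  have h2 : (𝐂(f.ker) ⊓ K.comap f).map f = K := le_antisymm
    (map_le_iff_le_comap.2 inf_le_right) fun k hk => by
      obtain ⟨x, hx, rfl⟩ := h1 hk
      exact mem_map_of_mem f ⟨hx, hk⟩
  have h3 : 𝐂(f.ker) ⊓ K.comap f ⊓ f.ker ≤ 𝐂(𝐂(f.ker) ⊓ K.comap f) :=
    inf_le_right.trans (centsC.1 inf_le_left)
  refine ⟨_, H23.isComponent_commutator_of_map f (inferInstance : (_ : Subgroup G).Normal).isSubnormal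
    h3 (h2.symm ▸ hK.2), inferInstance, ?_⟩
  rw [(H23.commutator_perfect_of_map f h3 (h2.symm ▸ H23.IsComponent.commutator_self hK)).1, h2]

/-- Lifting a normal 2-subgroup when the Sylow 2-subgroups centralize the odd kernel. -/
theorem exists_two_lift {G' : Type u} [Group G'] [Finite G'] {f : G →* G'}
    (hf : Function.Surjective f) (hk : OddS f.ker) (S : Sylow 2 G) (hS : (S : Subgroup G) ≤ 𝐂(f.ker))
    {Q : Subgroup G'} (hQ : IsPGroup 2 Q) [Q.Normal] :
    ∃ A : Subgroup G, A ≤ S ∧ A.Normal ∧ A.map f = Q := by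
  have h1 : ((S : Subgroup G) ⊓ Q.comap f).map f = Q := le_antisymm
    (map_le_iff_le_comap.2 inf_le_right) fun k hk => by
      obtain ⟨x, hx, rfl⟩ := hQ.le_sylow_of_normal (S.mapSurjective hf) hk
      exact mem_map_of_mem f ⟨hx, hk⟩
  refine ⟨_, inf_le_left, ⟨fun a ha g => mem_of_el2 hk
    (cents_norm (centsC.1 (inf_le_left.trans hS))) ?_ ((El2.of_mem S.isPGroup' ha.1).conj g)⟩, h1⟩
  rw [← comap_map_eq, h1]
  exact (inferInstance : (Q.comap f).Normal).conj_mem a ha.2 g

theorem le_of_map_le_odd {G' : Type*} [Group G'] {f : G →* G'} (hk : OddS f.ker) {S M : Subgroup G}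
    (hS : IsPGroup 2 S) [hM : M.Normal] (h : S.map f ≤ M.map f) : S ≤ M := fun s hs =>
  mem_of_el2 hk (le_top.trans (normal_iff_top_le_normalizer.1 hM))
    (by rw [← comap_map_eq]; exact h (mem_map_of_mem f hs)) (El2.of_mem hS hs)

theorem oddS_core : OddS (QuotientGroup.mk' (pPrimeCore 2 G)).ker := by
  rw [QuotientGroup.ker_mk']; exact oddS_iff.2 H1.odd_card_oddCore

theorem CI.core_cent (h : CI G) (S : Sylow 2 G)
    (hc : ¬ IsCyclic (⁅(S : Subgroup G), (S : Subgroup G)⁆ : Subgroup G)) {O : Subgroup G}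
    [hN : O.Normal] (hO : OddS O) : (S : Subgroup G) ≤ 𝐂(O) := by
  refine centsC.1 (cent_of_free S.isPGroup' hc O hO
    (le_top.trans (normal_iff_top_le_normalizer.1 hN)) fun s hs hs' x hx => ?_)
  by_cases e : S = x • S
  · intro t ht
    have h1 : x * t * x⁻¹ * t⁻¹ = 1 := hO.eq_one (by
      rw [mul_assoc x, mul_assoc x]; exact mul_mem hx.1 (hN.conj_mem _ (inv_mem (mem_inf.1 hx).1) t))
      (El2.of_mem S.isPGroup' (mul_mem (conj_mem_of_mem_normalizer
        (Sylow.smul_eq_iff_mem_normalizer.1 e.symm) ht) (inv_mem ht)))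
    rw [mul_inv_eq_one, mul_inv_eq_iff_eq_mul] at h1
    exact h1.symm
  · refine absurd (h.inter e ⟨hs, ?_⟩) hs'
    have := H72.conj_mem_smul_sylow (g := x) hs
    rwa [mem_centralizer_singleton_iff.1 hx.2, mul_inv_cancel_right] at this

omit [Finite G] in
/-- The canonical map of a quasisimple group onto the central quotient of an image. -/
theorem exists_xi {G' : Type*} [Group G'] (f : G →* G') {L : Subgroup G} (hL : IsQuasisimple L)
    (h : IsQuasisimple (L.map f)) : ∃ ξ : L →* L.map f ⧸ center (L.map f),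
      Function.Surjective ξ ∧ ξ.ker = center L := by
  have hs := (QuotientGroup.mk'_surjective (center (L.map f))).comp (f.subgroupMap_surjective L)
  refine ⟨(QuotientGroup.mk' _).comp (f.subgroupMap L), hs, le_antisymm ?_ fun x hx => ?_⟩
  · refine (H23.IsQuasisimple.normal_eq_top_or_le_center hL _).resolve_left fun e => ?_
    have := h.2.toNontrivial
    obtain ⟨y, hy⟩ := exists_ne (1 : L.map f ⧸ center (L.map f))
    obtain ⟨x, rfl⟩ := hs y
    exact hy (e.ge (mem_top x))
  · exact (QuotientGroup.eq_one_iff _).2 (H23.map_center_le_of_surjective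
      (f.subgroupMap_surjective L) (mem_map_of_mem _ hx))

end H69.SI
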