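import Mathlib
import Cfsg.Agent.Base
import Cfsg.Agent.Lib.SylInt.C2b
import Cfsg.Agent.Lib.SylInt.CI2

/-! # Centre of index 4; simple groups with abelian Sylow 2-subgroups -/

set_option autoImplicit false

namespace H69.SI

open Subgroup Cfsg H69 Gold H59 H45
open scoped commutatorElement

universe u

theorem c2_top {P : Type*} [Group P] (hn : ¬ IsMulCommutative P) (h4 : (center P).index = 4) :
    ∃ z : P, C2 ⊤ z := by
  have : Finite (P ⧸ center P) := Nat.finite_of_card_ne_zero (by rw [← index_eq_card, h4]; decide)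
  have hK : IsKleinFour (P ⧸ center P) := ⟨h4, (not_isCyclic_iff_exponent_eq_prime Nat.prime_two h4).1
    fun _ => hn ((QuotientGroup.mk' _).isMulCommutative_of_isCyclic_of_ker_le_center
      (QuotientGroup.ker_mk' _).le)⟩
  have := IsKleinFour.isMulCommutative (G := P ⧸ center P)
  set f := QuotientGroup.mk' (center P) with hf
  have hk : ∀ {x}, f x = 1 ↔ x ∈ center P := QuotientGroup.eq_one_iff _
  have h1 : ∀ a b : P, a * b * a⁻¹ * b⁻¹ ∈ center P := fun a b => hk.1 (by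
    simp only [map_mul, map_inv]
    rw [mul_comm' (f a) (f b)]; group)
  have e : ∀ {x y : P}, f x = f y → ∃ k ∈ center P, y = x * k := fun {x y} e =>
    ⟨x⁻¹ * y, QuotientGroup.eq.1 e, by group⟩
  have n1 : ∀ {x y : P}, x * y ≠ y * x → f x ≠ 1 ∧ f y ≠ 1 ∧ f x ≠ f y := fun {x y} h =>
    ⟨fun e => h (mem_center_iff.1 (hk.1 e) y).symm, fun e => h (mem_center_iff.1 (hk.1 e) x),
      fun e' => by
        obtain ⟨k, hk, rfl⟩ := e e'
        exact h (by rw [← mul_assoc, mul_assoc x k, ← mem_center_iff.1 hk x, mul_assoc])⟩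
  have h2 : ∀ a b c : P, a * b ≠ b * a → a * c ≠ c * a → a * b * a⁻¹ * b⁻¹ = a * c * a⁻¹ * c⁻¹ :=
    fun a b c hb hc => by
      by_cases h3 : f b = f c
      · obtain ⟨k, hk, rfl⟩ := e h3
        rw [show a * (b * k) * a⁻¹ * (b * k)⁻¹ = a * b * (k * a⁻¹) * k⁻¹ * b⁻¹ by group,
          ← mem_center_iff.1 hk a⁻¹]
        group
      · obtain ⟨k, hk, rfl⟩ := e ((map_mul f a b).trans (IsKleinFour.eq_mul_of_ne_all (n1 hb).1 (n1 hb).2.1
          (n1 hb).2.2 (n1 hc).2.1 (n1 hc).2.2.symm (Ne.symm h3)).symm)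
        rw [show a * (a * b * k) * a⁻¹ * (a * b * k)⁻¹ = a * (a * b * (k * a⁻¹) * k⁻¹ * b⁻¹) * a⁻¹ by group,
          ← mem_center_iff.1 hk a⁻¹, show a * b * (a⁻¹ * k) * k⁻¹ * b⁻¹ = a * b * a⁻¹ * b⁻¹ by group,
          mem_center_iff.1 (h1 a b) a, mul_inv_cancel_right]
  have h3 : ∀ a b : P, a * b * a⁻¹ * b⁻¹ * (a * b * a⁻¹ * b⁻¹) = 1 := fun a b => by
    have e := mem_center_iff.1 (hk.1 (show f (b * b) = 1 by rw [map_mul, IsKleinFour.mul_self])) a
    calc _ = a * b * a⁻¹ * (b⁻¹ * (a * b * a⁻¹ * b⁻¹) * b) * b⁻¹ * b⁻¹ * b := by group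
      _ = a * (b * b) * a⁻¹ * b⁻¹ * b⁻¹ := by rw [mem_center_iff.1 (h1 a b) b⁻¹]; group
      _ = 1 := by rw [e]; group
  have h5 : ∀ a b : P, b * a * b⁻¹ * a⁻¹ = a * b * a⁻¹ * b⁻¹ := fun a b => by
    rw [← inv_eq_of_mul_eq_one_right (h3 a b)]; group
  obtain ⟨a, b, hab⟩ : ∃ a b : P, a * b ≠ b * a := by
    by_contra e
    push Not at e
    exact hn ⟨⟨e⟩⟩
  refine ⟨a * b * a⁻¹ * b⁻¹, ⟨mem_top _, fun x _ => mem_center_iff.1 (h1 a b) x⟩, fun e => hab (by
    rwa [mul_inv_eq_one, mul_inv_eq_iff_eq_mul] at e), h3 a b, fun c _ d _ hcd => ?_,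
    fun e => hab (e (mem_top b) a (mem_top a))⟩
  rw [← mul_inv_eq_iff_eq_mul]
  by_cases e1 : c * a = a * c
  · by_cases e2 : c * b = b * c
    · exfalso
      have h6 : ∀ x : P, f x = f c → ∀ y, c * y = y * c → x * y = y * x := fun x hx y hy => by
        obtain ⟨k, hk, rfl⟩ := e hx
        rwa [mul_assoc, ← mem_center_iff.1 hk y, ← mul_assoc, ← mul_assoc, mul_left_inj] at hy
      have := h6 _ ((map_mul f a b).trans (IsKleinFour.eq_mul_of_ne_all (n1 hab).1 (n1 hab).2.1 (n1 hab).2.2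
        (n1 hcd).1 (fun e => hab (h6 a e.symm b e2)) fun e => hab (h6 b e.symm a e1).symm).symm) a e1
      exact hab (mul_left_cancel (mul_assoc a b a ▸ this)).symm
    · rw [h2 c d b hcd e2, h5, h2 b c a (Ne.symm e2) (Ne.symm hab), h5]
  · rw [h2 c d a hcd e1, h5, h2 a c b (Ne.symm e1) hab]

variable {G : Type u} [Group G]

theorem C2.map {G' : Type u} [Group G'] {S : Subgroup G} {z : G} (h : C2 S z) (f : G →* G')
    (hf : ∀ a ∈ S, f a = 1 → a = 1) : C2 (S.map f) (f z) where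
  zc := ⟨mem_map_of_mem f h.zc.1, by
    rintro _ ⟨a, ha, rfl⟩
    rw [← map_mul, ← map_mul, h.zc.2 a ha]⟩
  z1 := fun e => h.z1 (hf z h.zc.1 e)
  z2 := by rw [← map_mul, h.z2, map_one]
  cm := by
    rintro _ ⟨a, ha, rfl⟩ _ ⟨b, hb, rfl⟩ e
    rw [← map_inv, ← map_mul, ← map_mul, ← map_mul, h.cm a ha b hb fun e' => e (by
      rw [← map_mul, ← map_mul, e'])]
  nc := fun e => h.nc fun a ha b hb => by
    rw [← mul_inv_eq_one]
    refine hf _ (mul_mem (mul_mem hb ha) (inv_mem (mul_mem ha hb))) ?_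
    rw [map_mul, map_inv, map_mul, map_mul, e (mem_map_of_mem f ha) _ (mem_map_of_mem f hb), mul_inv_cancel]

theorem c2_of_index {S : Subgroup G} (hn : ¬ IsMulCommutative S) (h4 : (center S).index = 4) :
    ∃ z, C2 S z := by
  obtain ⟨z, h⟩ := c2_top hn h4
  have := h.map S.subtype fun a _ e => Subtype.ext e
  rw [map_subtype_top] at this
  exact ⟨_, this⟩

theorem C2.der_le {S : Subgroup G} {z : G} (h : C2 S z) : ⁅S, S⁆ ≤ zpowers z :=
  commutator_le.2 fun _ ha _ hb => h.comm_mem ha hb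

variable [Finite G]

theorem no_ess_of_comm {p : ℕ} [Fact p.Prime] {L S : Subgroup G} (h : S ≤ 𝐂(S)) (U : Subgroup G) :
    ¬ Ess p L S U := fun hU =>
  hU.ne (le_antisymm hU.le ((le_inf le_rfl h).trans (ess_center_le hU)))

/-- In a simple group with abelian Sylow 2-subgroup `S`, `N(S)` is transitive on `S#`. -/
theorem KS.ab_trans (ks : KS.{u}) [IsSimpleGroup G] (hn : ¬ IsMulCommutative G) (S : Sylow 2 G)
    (h : (S : Subgroup G) ≤ 𝐂((S : Subgroup G))) : (∀ a ∈ S, a * a = 1) ∧ ∀ a ∈ S, a ≠ 1 → ∀ b ∈ S, b ≠ 1 →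
      ∃ n ∈ 𝐍((S : Subgroup G)), n * a * n⁻¹ = b := by
  have hS1 := syl_ne_bot ks.k.ft (simple_not_solv (top_simple (G := G)) (top_not_comm hn)) (isSylowIn_top S)
  have hZ := zo_ne_bot S.isPGroup' hS1
  have h1 := ks.gs G ⊤ top_simple (top_not_comm hn) _ (ea_zo _) hZ
    (sc_zo (isSylowIn_top S) fun U hU => (no_ess_of_comm h U hU).elim)
  have h2 : zo (S : Subgroup G) = S := by
    rcases h1 with ⟨T, h1⟩ | h1
    · obtain rfl := h1.eq_of_syl (isSylowIn_top S) fun e => hZ (by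
        rw [eq_bot_iff, ← e]; exact le_inf h1.le (zo_le _))
      exact le_antisymm (zo_le _) fun s hs => h1.inv s hs (((ks.bse G hn _ h1.se).resolve_right fun e =>
        ben_not_comm e S (comm_iff_le_cent.2 h)).sq (El2.of_mem S.isPGroup' hs))
    · exact (h1.syl.max S (zo_le _) le_top S.isPGroup').symm
  rw [h2] at h1
  refine ⟨fun a ha => (h2.ge ha).2, fun a ha a1 b hb b1 => ?_⟩
  obtain ⟨g, hg, -, e⟩ := type_trans h1 ha a1 hb b1
  exact ⟨g, hg.2, e⟩

end H69.SI
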