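import Mathlib
import Cfsg.Agent.Base
import Cfsg.Agent.Lib.SylInt.CI2
import Cfsg.Agent.Lib.H4.QuatSL23
import Cfsg.Agent.Lib.Functor.SectFus

/-! # Sylow intersections with a unique involution: basic facts -/

set_option autoImplicit false

namespace H69.SI

open Subgroup Cfsg H69 Gold H59 H45
open scoped MatrixGroups commutatorElement

universe u

/-- `P` has at most one involution. -/
def UI {G : Type*} [Group G] (P : Subgroup G) : Prop :=
  ∀ a ∈ P, ∀ b ∈ P, a * a = 1 → b * b = 1 → a ≠ 1 → b ≠ 1 → a = b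

/-- Distinct Sylow 2-subgroups meet in a group with at most one involution. -/
def RI (G : Type*) [Group G] : Prop :=
  ∀ S T : Sylow 2 G, S ≠ T → UI ((S : Subgroup G) ⊓ T)

theorem quat_ij (n : ℕ) : ∃ i j : QuaternionGroup (2 ^ (n + 1)), i * i ≠ 1 ∧ i * i * (i * i) = 1 ∧
    j * j = i * i ∧ i * j * (i * j) = i * i := by
  have h : ((2 ^ n : ℕ) : ZMod (2 * 2 ^ (n + 1))) + (2 ^ n : ℕ) = (2 ^ (n + 1) : ℕ) := by
    push_cast; ring
  have h1 : (QuaternionGroup.a ((2 ^ n : ℕ) : ZMod (2 * 2 ^ (n + 1))) : QuaternionGroup _) *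
      QuaternionGroup.a ((2 ^ n : ℕ) : ZMod (2 * 2 ^ (n + 1))) = QuaternionGroup.xa 0 ^ 2 := by
    rw [QuaternionGroup.a_mul_a, h, QuaternionGroup.xa_sq]
  refine ⟨.a (2 ^ n : ℕ), .xa 0, fun e => ?_, ?_, by rw [h1, pow_two], ?_⟩
  · have := orderOf_dvd_of_pow_eq_one (h1 ▸ e)
    rw [QuaternionGroup.orderOf_xa] at this
    exact absurd this (by decide)
  · rw [h1, ← pow_add, QuaternionGroup.xa_pow_four]
  · rw [h1, QuaternionGroup.a_mul_xa, ← pow_two, QuaternionGroup.xa_sq, QuaternionGroup.xa_sq]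

variable {G : Type u} [Group G]

theorem UI.mono {P Q : Subgroup G} (h : UI Q) (hle : P ≤ Q) : UI P :=
  fun a ha b hb => h a (hle ha) b (hle hb)

theorem UI.uniq {P : Subgroup G} (h : UI P) : H41.UniqInv P := fun u v hu hv h1 h2 =>
  Subtype.ext (h u u.2 v v.2 (congrArg Subtype.val hu) (congrArg Subtype.val hv)
    (fun e => h1 (Subtype.ext e)) fun e => h2 (Subtype.ext e))

theorem UI.ord {P : Subgroup G} (h : UI P) {x y : G} (hx : x ∈ P) (hy : y ∈ P) (h1 : orderOf x = 2)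
    (h2 : orderOf y = 2) : x = y :=
  h x hx y hy (by rw [← pow_two, ← h1, pow_orderOf_eq_one]) (by rw [← pow_two, ← h2, pow_orderOf_eq_one])
    (fun e => by simp [e] at h1) fun e => by simp [e] at h2

/-- An involution of `P` is fixed by every conjugation that keeps it in `P`. -/
theorem UI.conj {P : Subgroup G} (h : UI P) {z g : G} (hz : z ∈ P) (h2 : z * z = 1)
    (hg : g * z * g⁻¹ ∈ P) : g * z * g⁻¹ = z := by
  by_cases h1 : z = 1
  · simp [h1]
  exact h _ hg z hz (by rw [conj_mul, h2]; group) h2 (fun e => h1 (conj_eq_one_iff.1 e)) h1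

theorem UI.comm {P : Subgroup G} (h : UI P) {z g : G} (hz : z ∈ P) (h2 : z * z = 1)
    (hg : g ∈ 𝐍(P)) : g * z = z * g :=
  mul_inv_eq_iff_eq_mul.1 (h.conj hz h2 (conj_mem_of_mem_normalizer hg hz))

theorem not_ui {P : Subgroup G} {a b : G} (ha : a ∈ P) (hb : b ∈ P) (h1 : a * a = 1) (h2 : b * b = 1)
    (ha1 : a ≠ 1) (hb1 : b ≠ 1) (hne : a ≠ b) : ¬ UI P := fun h => hne (h a ha b hb h1 h2 ha1 hb1)

theorem exists_inv_ne {P : Subgroup G} (h : ¬ UI P) (z : G) : ∃ t ∈ P, t * t = 1 ∧ t ≠ 1 ∧ t ≠ z := by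
  by_contra hc
  push Not at hc
  exact h fun a ha b hb h1 h2 h3 h4 => (hc a ha h1 h3).trans (hc b hb h2 h4).symm

variable [Finite G]

theorem ui_of_rank {P : Subgroup G} (hP : IsPGroup 2 P) (h : PRankLE 2 1 P) : UI P :=
  fun a ha b hb h1 h2 h3 h4 => congrArg Subtype.val (H3.CW.uniqInv_of_pRankLE hP h ⟨a, ha⟩ ⟨b, hb⟩
    (Subtype.ext h1) (Subtype.ext h2) (fun e => h3 (congrArg Subtype.val e))
    fun e => h4 (congrArg Subtype.val e))

theorem not_ui_of_four {A : Subgroup G} (hA : IsElementaryAbelian 2 A) (h : 4 ≤ Nat.card A) :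
    ¬ UI A := by
  obtain ⟨a, ha, h1, -⟩ := exists_three h 1 1
  obtain ⟨b, hb, h2, h3⟩ := exists_three h 1 a
  exact not_ui hb ha (ea_sq hA hb) (ea_sq hA ha) h2 h1 h3

theorem UI.quat {P : Subgroup G} (h : UI P) (hP : IsPGroup 2 P) (hc : ¬ IsCyclic P) :
    ∃ n : ℕ, Nonempty (P ≃* QuaternionGroup (2 ^ (n + 1))) :=
  (h.uniq.cyclic_or_quaternion hP).resolve_left hc

theorem UI.exists_ij {P : Subgroup G} (h : UI P) (hP : IsPGroup 2 P) (hc : ¬ IsCyclic P) :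
    ∃ i ∈ P, ∃ j ∈ P, i * i ≠ 1 ∧ i * i * (i * i) = 1 ∧ j * j = i * i ∧ i * j * (i * j) = i * i := by
  obtain ⟨n, ⟨e⟩⟩ := h.quat hP hc
  obtain ⟨i, j, h1, h2, h3, h4⟩ := quat_ij n
  refine ⟨e.symm i, (e.symm i).2, e.symm j, (e.symm j).2, fun e' => h1 (e.symm.injective ?_), ?_, ?_, ?_⟩
  · rw [map_mul, map_one]; exact Subtype.ext e'
  all_goals simp only [← coe_mul, ← map_mul, h2, h3, h4, map_one, coe_one]

/-- The centralizer of a non-cyclic subgroup has exponent 2. -/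
theorem UI.sq_of_cent {P T : Subgroup G} (h : UI P) (hP : IsPGroup 2 P) (hT : T ≤ P)
    (hc : ¬ IsCyclic T) {c : G} (hcP : c ∈ P) (hcT : c ∈ 𝐂(T)) : c * c = 1 := by
  by_contra hne
  obtain ⟨i, hi, j, hj, h1, h2, h3, h4⟩ := (h.mono hT).exists_ij (hP.to_le hT) hc
  obtain ⟨m, hm⟩ := IsPGroup.iff_orderOf.1 hP ⟨c, hcP⟩
  have hm2 : 2 ≤ m := by
    by_contra e
    refine hne (congrArg Subtype.val (?_ : (⟨c, hcP⟩ : P) * ⟨c, hcP⟩ = 1))
    rw [← pow_two, ← orderOf_dvd_iff_pow_eq_one, hm]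
    exact (pow_dvd_pow 2 (by omega : m ≤ 1)).trans (by norm_num)
  have key : ∀ x (hx : x ∈ T), x * x * (x * x) = 1 → (⟨x, hT hx⟩ : P) ∈ zpowers (⟨c, hcP⟩ : P) :=
    fun x hx e => h.uniq.mem_zpowers_of_commute hm 2 _ (Subtype.ext (hcT x hx).symm)
      (Subtype.ext (by simpa [pow_succ, mul_assoc] using e)) hm2
  obtain ⟨a, ha⟩ := key i hi h2
  obtain ⟨b, hb⟩ := key j hj (by rw [h3, h2])
  have h5 : i * j = j * i := congrArg Subtype.val (show (⟨i, hT hi⟩ : P) * ⟨j, hT hj⟩ =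
    ⟨j, hT hj⟩ * ⟨i, hT hi⟩ by rw [← ha, ← hb]; exact zpow_mul_comm _ _ _)
  apply h1
  rw [← h4, mul_assoc, ← mul_assoc j, ← h5, mul_assoc, h3, ← mul_assoc, h2]

theorem UI.not_comm {P : Subgroup G} (h : UI P) (hP : IsPGroup 2 P) (hc : ¬ IsCyclic P) :
    ¬ P ≤ 𝐂(P) := fun e => by
  obtain ⟨i, hi, -, -, h1, -⟩ := h.exists_ij hP hc
  exact h1 (h.sq_of_cent hP le_rfl hc hi (e hi))

theorem UI.der {P : Subgroup G} (h : UI P) (hP : IsPGroup 2 P) : IsCyclic (⁅P, P⁆ : Subgroup G) := by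
  obtain ⟨a, b, h1, h2⟩ := uniqInv_gens h.uniq hP
  exact (isCyclic_der_iff P).1 (cyc_der (MonoidHom.id P) Function.surjective_id (by simp) h1 h2)

theorem UI.solv_aut {P : Subgroup G} (h : UI P) (hP : IsPGroup 2 P) : Group.IsSolvable (MulAut P) := by
  rcases H4.aut_cases_of_uniq hP (fun x y hx hy => Subtype.ext (h.ord x.2 y.2
    (by rwa [orderOf_coe]) (by rwa [orderOf_coe]))) with h1 | ⟨⟨e⟩⟩
  · have := h1.isNilpotent
    infer_instance
  · obtain ⟨f⟩ := Cfsg.Agent.S3742.result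
    have := H82.isSolvable_perm (α := Fin 4) (by simp)
    exact Group.isSolvable_of_isSolvable_injective (f := ((MulAut.congr e).trans f).toMonoidHom)
      (MulEquiv.injective _)

theorem layer_ne_bot_of_ui (hO : pPrimeCore 2 G = ⊥) (h : UI (pCore 2 G)) (hns : ¬ Group.IsSolvable G) :
    layer G ≠ ⊥ := fun e => by
  have h1 := H23.centralizer_fStar_le_fitting (G := G)
  rw [H23.fStar_def, e, bot_sup_eq, H1.fitting_eq_pCore_of_pPrimeCore_eq_bot hO] at h1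
  have := h.solv_aut H1.isPGroup_pCore
  have := solv2 (H1.isPGroup_pCore (p := 2) (G := G))
  refine hns (Group.isSolvable_of_ker_le_range (pCore 2 G).subtype
    (MulAut.conjNormal (H := pCore 2 G)) fun g hg => ?_)
  rw [range_subtype]
  refine h1 fun x hx => ?_
  have := congrArg (fun φ : MulAut (pCore 2 G) => ((φ ⟨x, hx⟩ : pCore 2 G) : G)) (MonoidHom.mem_ker.1 hg)
  exact (mul_inv_eq_iff_eq_mul.1 this).symm

omit [Finite G] in
theorem RI.eq (h : RI G) {P : Subgroup G} (hP : ¬ UI P) {S T : Sylow 2 G} (hS : P ≤ S) (hT : P ≤ T) :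
    S = T := by
  by_contra e
  exact hP ((h S T e).mono (le_inf hS hT))

omit [Finite G] in
theorem RI.norm (h : RI G) {P : Subgroup G} (hP : ¬ UI P) {S : Sylow 2 G} (hS : P ≤ S) :
    𝐍(P) ≤ 𝐍((S : Subgroup G)) := fun g hg =>
  Sylow.smul_eq_iff_mem_normalizer.1 (h.eq hP (by
    rw [coe_smul_sylow, ← cj_eq_of_mem_normalizer hg]; exact cj_mono g hS) hS)

omit [Finite G] in
theorem RI.mem (h : RI G) {P : Subgroup G} (hP : ¬ UI P) {S : Sylow 2 G} (hS : P ≤ S) {x : G}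
    (hx : x ∈ 𝐍(P)) (h2 : El2 x) : x ∈ S :=
  mem_syl_of_el2 (isSylowIn_top S) (mem_top x) (h.norm hP hS hx) h2

theorem RI.ui_of_cent (h : RI G) {K P : Subgroup G} (hK : ¬ Group.IsSolvable K) (hP : IsPGroup 2 P)
    (hc : P ≤ 𝐂(K)) : UI P := by
  obtain ⟨S, T, h1, h2⟩ := exists_inter_of_cent hK hP hc
  exact (h S T h1).mono h2

theorem RI.of_odd (h : RI G) {G' : Type u} [Group G'] {f : G →* G'} (hf : Function.Surjective f)
    (hk : OddS f.ker) : RI G' := fun S' T' hne => by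
  obtain ⟨S, T, h1, h2⟩ := H72.exists_lift_inter hf hne
  rw [h2]
  rintro _ ⟨a, ha, rfl⟩ _ ⟨b, hb, rfl⟩ h3 h4 h5 h6
  rw [h S T h1 a ha b hb
    (inj_on_two hk S.isPGroup' (mul_mem ha.1 ha.1) (one_mem _) (by rwa [map_mul, map_one]))
    (inj_on_two hk S.isPGroup' (mul_mem hb.1 hb.1) (one_mem _) (by rwa [map_mul, map_one]))
    (fun e => h5 (by rw [e, map_one])) fun e => h6 (by rw [e, map_one])]

/-- Control of fusion by `N(S)` passes to quotients. -/
theorem fus_map {p : ℕ} [Fact p.Prime] {S : Subgroup G} (hS : IsSylowIn p S ⊤) (h : Fus 𝐍(S) ⊤ S)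
    (K : Subgroup G) [K.Normal] :
    Fus 𝐍(S.map (QuotientGroup.mk' K)) ⊤ (S.map (QuotientGroup.mk' K)) := fun A g hA _ hg => by
  obtain ⟨g, rfl⟩ := QuotientGroup.mk'_surjective K g
  have e : (S ⊓ A.comap (QuotientGroup.mk' K)).map (QuotientGroup.mk' K) = A := by
    refine le_antisymm (map_le_iff_le_comap.2 inf_le_right) fun a ha => ?_
    obtain ⟨s, hs, rfl⟩ := hA ha
    exact ⟨s, ⟨hs, ha⟩, rfl⟩
  rw [← e] at hg ⊢
  obtain ⟨k, hk, -, h1⟩ := exists_lift_cj_le hS inf_le_left (mem_top g) (cj_le_sup_of_map_cj_le hg)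
  obtain ⟨x, hx, h2⟩ := h _ _ inf_le_left (mem_top _) h1
  have h3 := h2.map (QuotientGroup.mk' K)
  rw [map_mul, show QuotientGroup.mk' K k = 1 from (QuotientGroup.eq_one_iff k).2 hk, one_mul] at h3
  exact ⟨_, ⟨mem_top _, le_normalizer_map _ (mem_map_of_mem _ hx.2)⟩, h3⟩

/-- If `N(S)` controls fusion, `S` induces inner automorphisms on a normal component. -/
theorem KS.map_eq (ks : KS.{u}) {L : Subgroup G} (hL : IsComponent L) [hN : L.Normal] (S : Sylow 2 G)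
    (hF : Fus 𝐍((S : Subgroup G)) ⊤ S) :
    (S : Subgroup G).map (QuotientGroup.mk' 𝐂(L)) = ((S : Subgroup G) ⊓ L).map (QuotientGroup.mk' 𝐂(L)) := by
  have hf := QuotientGroup.mk'_surjective 𝐂(L)
  obtain ⟨h1, h2⟩ := simple_map_cent hL.2
  exact (((isSylowIn_top S).inf_normal le_top (normal_iff_top_le_normalizer.1 hN)).map _).max _
    (map_mono inf_le_left) (ks.inner_of_fus h1 h2 le_top (normal_iff_top_le_normalizer.1 (hN.map _ hf))
    (by rw [top_inf_eq, cent_map_eq_bot (H23.IsComponent.commutator_self hL)])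
    (isSylowIn_top (S.mapSurjective hf)) (fus_map (isSylowIn_top S) hF _)) (S.isPGroup'.map _)

theorem KS.split (ks : KS.{u}) {L : Subgroup G} (hL : IsComponent L) [L.Normal] (S : Sylow 2 G)
    (hF : Fus 𝐍((S : Subgroup G)) ⊤ S) {s : G} (hs : s ∈ S) :
    ∃ t ∈ (S : Subgroup G) ⊓ L, ∃ c ∈ (S : Subgroup G) ⊓ 𝐂(L), s = t * c := by
  obtain ⟨t, ht, e⟩ := (ks.map_eq hL S hF).le (mem_map_of_mem _ hs)
  exact ⟨t, ht, t⁻¹ * s, mem_inf.2 ⟨mul_mem (inv_mem (mem_inf.1 ht).1) hs, QuotientGroup.eq.1 e⟩, by group⟩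

end H69.SI
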