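import Mathlib
import Cfsg.Agent.Base
import Cfsg.Agent.Lib.SylInt.Rk1
import Cfsg.Agent.Lib.PGroup.MaxClass2
import Cfsg.Agent.Lib.PGroup.Rank
import Cfsg.Agent.Lib.Invol.Dihedral
import Cfsg.Agent.Lib.Core.Wielandt

/-! # Sylow intersections with a unique involution: there are no essential subgroups -/

set_option autoImplicit false

namespace H69.SI

open Subgroup Cfsg H69 Gold H59 H45
open scoped MatrixGroups commutatorElement

universe u

/-- The element of order 4 in the second centre of a 2-group of maximal class. -/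
theorem maxclass_w {P : Type u} [Group P] [Finite P] (hP : IsPGroup 2 P) (h8 : 8 ≤ Nat.card P) (x : P)
    (hx : Nat.card (centralizer ({x} : Set P)) ≤ 2 ^ 2) :
    ∃ w : P, w * w ≠ 1 ∧ w * w * (w * w) = 1 ∧ IsCyclic (centralizer ({w} : Set P)) ∧
      (∀ g, g * w * g⁻¹ = w ∨ g * w * g⁻¹ = w⁻¹) ∧ ∀ t v, t * t = 1 → t ≠ 1 → t ≠ w * w →
        v * v = w * w → v * t * v⁻¹ * t⁻¹ ∈ zpowers (w * w) → v = w ∨ v = w⁻¹ := by
  obtain ⟨n, hn⟩ := IsPGroup.iff_card.1 hP
  obtain ⟨k, rfl⟩ : ∃ k, n = k + 3 := ⟨n - 3, by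
    have : 3 ≤ n := (Nat.pow_le_pow_iff_right one_lt_two).1 (hn ▸ h8 :)
    omega⟩
  have hc := H5.nilpotencyClass_eq_of_card_centralizer_le (k + 1) P hn x hx
  have := hP.isNilpotent
  obtain ⟨h1, h2⟩ := H5.index_commutator_of_maxClass hn hc
  obtain ⟨a, b, m, hm, ha, hi, hb, h⟩ := H5.exists_gens_of_index_four hP h1
    (fun x => by simpa [pow_two] using h2 x) (H5.commutator_ne_bot_of_class (by omega))
  have hba : b * a * b⁻¹ = a⁻¹ ∨ (2 ≤ m ∧ b * a * b⁻¹ = a⁻¹ * a ^ 2 ^ m) := by tauto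
  obtain ⟨m, rfl⟩ : ∃ k, m = k + 1 := ⟨m - 1, by omega⟩
  have hw : a ^ 2 ^ m * a ^ 2 ^ m = a ^ 2 ^ (m + 1) := by rw [← pow_add, ← two_mul, ← pow_succ']
  have hzz := H5.half_mul_self ha
  have hwa : a ^ 2 ^ m ∈ zpowers a := pow_mem (mem_zpowers a) _
  have hcomm : ∀ {c d : P}, c ∈ zpowers a → d ∈ zpowers a → c * d = d * c := by
    rintro _ _ ⟨i, rfl⟩ ⟨j, rfl⟩
    exact zpow_mul_comm _ _ _
  have hout : ∀ {s t : P}, s ∉ zpowers a → t ∉ zpowers a → s * t⁻¹ ∈ zpowers a := fun hs ht =>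
    (mul_mem_iff_of_index_two hi).2 (iff_of_false hs (by rwa [inv_mem_iff]))
  have k4 : ∀ c ∈ zpowers a, b * c * b⁻¹ * c ∈ zpowers (a ^ 2 ^ (m + 1)) := by
    rintro _ ⟨i, rfl⟩
    rw [← conj_zpow]
    rcases hba with e | ⟨-, e⟩ <;> rw [e]
    · simp
    · rw [((Commute.refl a).inv_left.pow_right _).mul_zpow, mul_assoc,
        hcomm (zpow_mem (pow_mem (mem_zpowers a) _) i) (zpow_mem (mem_zpowers a) i)]
      simp
  have k1 : ∀ {s c : P}, s ∉ zpowers a → c ∈ zpowers a → s * c * s⁻¹ = b * c * b⁻¹ := fun {s c} hs hc => by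
    have h3 : b * c * b⁻¹ ∈ zpowers a := (mul_mem_cancel_right hc).1
      (zpowers_le.2 (pow_mem (mem_zpowers a) _) (k4 c hc))
    calc s * c * s⁻¹ = s * b⁻¹ * (b * c * b⁻¹) * (s * b⁻¹)⁻¹ := by group
      _ = _ := by rw [hcomm (hout hs hb) h3, mul_inv_cancel_right]
  have k2 : b * a ^ 2 ^ m * b⁻¹ = (a ^ 2 ^ m)⁻¹ := by
    rw [← conj_pow]
    rcases hba with e | ⟨h3, e⟩ <;> rw [e]
    · rw [inv_pow]
    · obtain ⟨m, rfl⟩ : ∃ k, m = k + 1 := ⟨m - 1, by omega⟩
      rw [((Commute.refl a).inv_left.pow_right _).mul_pow, inv_pow, mul_eq_left, pow_succ' 2 m,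
        pow_mul _ 2, pow_two, hzz, one_pow]
  have k3 : ∀ v ∈ zpowers a, v * v = a ^ 2 ^ (m + 1) → v = a ^ 2 ^ m ∨ v = (a ^ 2 ^ m)⁻¹ := fun v hv e => by
    refine (H5.eq_one_or_half ha (mul_mem hv hwa) ?_).symm.imp (fun e' => ?_) eq_inv_of_mul_eq_one_left
    · rw [mul_assoc, ← mul_assoc _ v, hcomm hwa hv, mul_assoc, hw, ← mul_assoc, e, hzz]
    · rw [← hw] at e'; exact mul_right_cancel e'
  refine ⟨a ^ 2 ^ m, hw ▸ H5.half_ne_one ha, hw ▸ hzz, isCyclic_of_le (H' := zpowers a) fun g hg => ?_,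
    fun g => ?_, fun t v h3 h4 h5 h6 h7 => ?_⟩
  · by_contra e
    apply H5.half_ne_one ha
    rw [← hw, ← eq_inv_iff_mul_eq_one, ← k2, ← k1 e hwa, mem_centralizer_singleton_iff.1 hg,
      mul_inv_cancel_right]
  · by_cases e : g ∈ zpowers a
    · exact Or.inl (by rw [hcomm e hwa, mul_inv_cancel_right])
    · exact Or.inr ((k1 e hwa).trans k2)
  rw [hw] at h5 h6 h7
  have ht : t ∉ zpowers a := fun e => (H5.eq_one_or_half ha e h3).elim h4 h5
  by_cases hv : v ∈ zpowers a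
  · exact k3 v hv h6
  exfalso
  have hc := hout hv ht
  obtain ⟨c, rfl⟩ : ∃ c, v = c * t := ⟨v * t⁻¹, by group⟩
  rw [mul_inv_cancel_right] at hc
  have h8 : c * c ∈ zpowers (a ^ 2 ^ (m + 1)) := by
    have h9 := mul_mem h7 (k1 ht hc ▸ k4 c hc)
    rwa [show c * t * t * (c * t)⁻¹ * t⁻¹ * (t * c * t⁻¹ * c) = c * c by group] at h9
  have h9 : c ∈ zpowers (a ^ 2 ^ m) := by
    rcases (mem_zpowers_of_mul_self hzz).1 h8 with e | e
    · rcases H5.eq_one_or_half ha hc e with e | e <;> rw [e]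
      exacts [one_mem _, hw ▸ mul_mem (mem_zpowers _) (mem_zpowers _)]
    · rcases k3 c hc e with e | e <;> rw [e]
      exacts [mem_zpowers _, inv_mem (mem_zpowers _)]
  obtain ⟨i, rfl⟩ := h9
  apply H5.half_ne_one ha
  calc _ = (a ^ 2 ^ m) ^ i * (t * a ^ 2 ^ m * t⁻¹) ^ i * (t * t) := by rw [← h6, conj_zpow]; group
    _ = 1 := by rw [k1 ht hwa, k2, h3]; group

theorem q8_gen (a x u : QuaternionGroup 2) : a * x ≠ x * a → u = 1 ∨ u = a ∨ u = x ∨ u = a * x ∨
    u = x * a ∨ u = a * a ∨ u = a⁻¹ ∨ u = x⁻¹ := by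
  revert a x u; decide

variable {G : Type u} [Group G] [Finite G]

omit [Finite G] in
theorem cent_q8 {U : Subgroup G} (e : U ≃* QuaternionGroup 2) {a x c : G} (ha : a ∈ U) (hx : x ∈ U)
    (hne : a * x ≠ x * a) (h1 : Commute a c) (h2 : Commute x c) : c ∈ 𝐂(U) := fun u hu => by
  have h := q8_gen (e ⟨a, ha⟩) (e ⟨x, hx⟩) (e ⟨u, hu⟩) fun h => hne (by
    rw [← map_mul, ← map_mul] at h; exact congrArg Subtype.val (e.injective h))
  simp only [← map_mul, ← map_inv, EmbeddingLike.apply_eq_iff_eq, EmbeddingLike.map_eq_one_iff,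
    Subtype.ext_iff, coe_mul, coe_inv, coe_one] at h
  rcases h with rfl | rfl | rfl | rfl | rfl | rfl | rfl | rfl
  exacts [Commute.one_left c, h1, h2, h1.mul_left h2, h2.mul_left h1, h1.mul_left h1, h1.inv_left,
    h2.inv_left]

/-- An essential quaternion group forces an element with centralizer of order 4. -/
theorem ess_small_cent {L S U : Subgroup G} (h : Ess 2 L S U) (hU : UI U)
    (e : U ≃* QuaternionGroup 2) : ∃ x : S, Nat.card (centralizer ({x} : Set S)) ≤ 2 ^ 2 := by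
  have hU2 := h.isP.to_le h.le
  have hc : ¬ IsCyclic U := fun hc => by
    have := isCyclic_of_surjective e e.surjective
    exact absurd (mul_comm' (QuaternionGroup.a 1 : QuaternionGroup 2) (.xa 0)) (by decide)
  have hZ : S ⊓ 𝐂(S) ≤ U ⊓ 𝐂(U) := le_inf (ess_center_le h) (inf_le_right.trans (centralizer_anti h.le))
  obtain ⟨z, hz, hz1⟩ := exists_ne_one (center_ne_bot h.isP fun e => h.ne (le_antisymm h.le (e ▸ bot_le)))
  have hsq : ∀ {c}, c ∈ U ⊓ 𝐂(U) → c * c = 1 := fun hc' => hU.sq_of_cent hU2 le_rfl hc hc'.1 hc'.2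
  have hcase : ∀ {c}, c ∈ U ⊓ 𝐂(U) → c = 1 ∨ c = z := fun {c} hc' => or_iff_not_imp_left.2 fun h1 =>
    hU c hc'.1 z (hZ hz).1 (hsq hc') (hsq (hZ hz)) h1 hz1
  obtain ⟨a, ha, h1, -, h2⟩ := H5.exists_step_of_le h.isP (S ⊓ 𝐂(S)) le_rfl le_normalizer fun e =>
    hU.not_comm hU2 hc (h.le.trans (e.trans (hZ.trans inf_le_right)))
  have haN : a ∈ 𝐍(U) := mem_normalizer_of_cj_le fun y hy => by
    obtain ⟨u, hu, rfl⟩ := mem_cj'.1 hy
    have := mul_mem (hZ (h2 u (h.le hu))).1 hu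
    rwa [commutatorElement_def, inv_mul_cancel_right] at this
  have haU : a ∈ U := h.mem_of_stabilizes (V := U ⊓ 𝐂(U)) inf_le_left
    (inf_le_right.trans (le_normalizer_inf le_rfl (normalizer_le_normalizer_centralizer U))) ⟨ha, haN⟩
    (fun v hv => (hU.comm hv.1 (hsq hv) haN).symm) fun u hu => hZ (h2 u (h.le hu))
  obtain ⟨x, hx, hax⟩ : ∃ x ∈ U, a * x ≠ x * a := by
    by_contra e
    push Not at e
    rcases hcase ⟨haU, fun x hx => (e x hx).symm⟩ with rfl | rfl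
    exacts [h1 (one_mem _), h1 hz]
  have key : ∀ c ∈ S, Commute a c → Commute x c → c = 1 ∨ c = z := fun c hc h3 h4 =>
    have h5 := cent_q8 e haU hx hax h3 h4
    hcase ⟨h.centric ⟨hc, h5⟩, h5⟩
  have hconj : ∀ c ∈ S, ¬ Commute a c → a * c * a⁻¹ = z * c := fun c hc h3 => by
    rw [← (hcase (hZ (h2 c hc))).resolve_left fun e => h3 (commutatorElement_eq_one_iff_commute.1 e),
      commutatorElement_def, inv_mul_cancel_right]
  refine ⟨⟨x, h.le hx⟩, ?_⟩
  have h3 : ((centralizer ({⟨x, h.le hx⟩} : Set S) : Subgroup S) : Set S) ⊆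
      {1, ⟨z, hz.1⟩, ⟨x, h.le hx⟩, ⟨z, hz.1⟩ * ⟨x, h.le hx⟩} := fun c hc => by
    have h4 : Commute x c := (congrArg Subtype.val (mem_centralizer_singleton_iff.1 hc)).symm
    simp only [Set.mem_insert_iff, Set.mem_singleton_iff, Subtype.ext_iff, coe_mul, coe_one]
    by_cases h5 : Commute a c
    · exact (key c c.2 h5 h4).imp_right Or.inl
    refine Or.inr (Or.inr ((key (c * x⁻¹) (mul_mem c.2 (inv_mem (h.le hx))) ?_
      (h4.mul_right (Commute.refl x).inv_right)).imp mul_inv_eq_one.1 mul_inv_eq_iff_eq_mul.1))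
    rw [commute_iff_eq, ← mul_inv_eq_iff_eq_mul, ← conj_mul, conj_inv.symm, hconj c c.2 h5,
      hconj x (h.le hx) hax, ← hz.2 c c.2, ← hz.2 x (h.le hx)]
    group
  rw [← SetLike.coe_sort_coe, Nat.card_coe_set_eq]
  refine (Set.ncard_le_ncard h3).trans ?_
  exact (Set.ncard_insert_le _ _).trans (Nat.succ_le_succ ((Set.ncard_insert_le _ _).trans
    (Nat.succ_le_succ ((Set.ncard_insert_le _ _).trans (by simp)))))

theorem RI.ui_ess (h : RI G) {S : Sylow 2 G} {U : Subgroup G} (hU : Ess 2 ⊤ (S : Subgroup G) U) :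
    UI U := by
  obtain ⟨T, h1, rfl⟩ := ess_inter_top hU
  exact h S T h1

theorem KS.ri_no_ess (ks : KS.{u}) (hO : pPrimeCore 2 G = ⊥) (h : RI G) (hns : ¬ Group.IsSolvable G)
    (S : Sylow 2 G) (hS : ¬ UI (S : Subgroup G)) (U : Subgroup G) : ¬ Ess 2 ⊤ (S : Subgroup G) U := by
  intro hE
  have hU := h.ui_ess hE
  have hsc : SC (zo (S : Subgroup G)) ⊤ := sc_zo (isSylowIn_top S) fun V hV =>
    le_normalizer_of_cj_le fun g hg x hx => by
      obtain ⟨y, hy, rfl⟩ := mem_cj'.1 hx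
      have h2 := ess_center_le hV hy.1
      rwa [(h.ui_ess hV).conj h2 hy.2 (conj_mem_of_mem_normalizer hg.2 h2)]
  obtain ⟨e⟩ : Nonempty (U ≃* QuaternionGroup 2) := by
    have := ess_not_pow hE
    push Not at this
    obtain ⟨g, h1, h2, h3⟩ := this
    exact (H4.exists_three_elt (hE.isP.to_le hE.le) (fun x hx y hy => hU.ord hx hy) h1.2
      (Nat.coprime_two_right.1 h2) h3).1
  obtain ⟨x, hx⟩ := ess_small_cent hE hU e
  obtain ⟨⟨w, hw⟩, w1, w2, w3, w4, w5⟩ := maxclass_w S.isPGroup' (by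
    have := card_le_of_le hE.le
    rwa [Nat.card_congr e.toEquiv, H82.card_quat] at this) x hx
  obtain ⟨z, hz⟩ : ∃ z, z = w * w := ⟨_, rfl⟩
  have z1 : z ≠ 1 := fun e => w1 (Subtype.ext (hz.symm.trans e))
  have z2 : z * z = 1 := hz ▸ congrArg Subtype.val w2
  have w4' : ∀ g ∈ S, g * w * g⁻¹ = w ∨ g * w * g⁻¹ = w⁻¹ := fun g hg =>
    (w4 ⟨g, hg⟩).imp (congrArg Subtype.val) (congrArg Subtype.val)
  have hzS : z ∈ zo (S : Subgroup G) := ⟨⟨hz ▸ mul_mem hw hw, fun g hg => by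
    rw [← mul_inv_eq_iff_eq_mul, hz, ← conj_mul]
    rcases w4' g hg with e | e <;> rw [e]
    rw [← mul_inv_rev, ← hz, inv_eq_of_mul_eq_one_right z2]⟩, z2⟩
  have hzc : ∀ g, z * g = g * z := fun g => by
    have := ks.k.zs G ⊤ S (isSylowIn_top S) z hzS.1.1 (fun g hg hc => hU.conj (ess_center_le hE hzS.1) z2
      (ess_center_le hE (hsc.2 S S.isPGroup' (zo_le _) g hg z hzS hc).1)) g (mem_top g)
    rwa [Od_top, hO, mem_bot, commutatorElement_eq_one_iff_mul_comm] at this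
  have : (zpowers z).Normal := normal_iff_top_le_normalizer.2 (le_normalizer_of_le_centralizer
    fun g _ => by rw [centralizer_zpowers]; exact mem_centralizer_singleton_iff.2 (hzc g).symm)
  have hf := QuotientGroup.mk'_surjective (zpowers z)
  set f := QuotientGroup.mk' (zpowers z) with hfd
  have hk : ∀ {y}, f y = 1 ↔ y ∈ zpowers z := QuotientGroup.eq_one_iff _
  have hc : ∀ {x y}, Commute (f x) (f y) → x * y * x⁻¹ * y⁻¹ ∈ zpowers z := fun e => hk.1 (by
    simp only [map_mul, map_inv]; rw [e.eq]; group)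
  have key : ∀ y ∈ S, y * y = 1 → y ≠ 1 → y ≠ z → ∀ x, El2 x → Commute (f x) (f y) → x ∈ S :=
    fun y hy y1 y2 y3 x x1 x2 => h.mem (P := (zpowers (f y)).comap f)
      (not_ui (mem_zpowers _) (by rw [mem_comap, hk.2 (mem_zpowers z)]; exact one_mem _) y1 z2 y2 z1 y3)
      (by
        refine (comap_mono (zpowers_le.2 (mem_map_of_mem f hy))).trans ?_
        rw [comap_map_eq, QuotientGroup.ker_mk']
        exact sup_le le_rfl (zpowers_le.2 hzS.1.1))
      (le_normalizer_comap f (cents_norm (centralizer_zpowers _).ge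
        (mem_centralizer_singleton_iff.2 x2))) x1
  obtain ⟨t, ht, t1, t2, t3⟩ := exists_inv_ne hS z
  have hw2 : El2 w := El2.of_mem S.isPGroup' hw
  have hzw : zpowers z ≤ zpowers w := zpowers_le.2 (hz ▸ mul_mem (mem_zpowers w) (mem_zpowers w))
  have hwQ : w ∈ pCore 2 G := H1.mem_pCore_of_forall_closure_isPGroup fun g => by
    have hu : g * w * g⁻¹ * (g * w * g⁻¹) = z := by rw [conj_mul, ← hz, ← hzc, mul_inv_cancel_right]
    obtain ⟨v, v1, v2, v3⟩ := H9.exists_involution_commute_of_not_isConj (x := f t) (y := f (g * w * g⁻¹))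
      (by rw [← map_mul, t1, map_one]) (by rw [← map_mul, hu]; exact hk.2 (mem_zpowers z)) fun e => by
        obtain ⟨c, e⟩ := isConj_iff.1 e
        obtain ⟨c, rfl⟩ := hf c
        have h1 : (c * t * c⁻¹)⁻¹ * (g * w * g⁻¹) ∈ zpowers z := hk.1 (by
          rw [map_mul, map_inv, ← e, map_mul, map_mul, map_inv, inv_mul_cancel])
        have h2 : c * t * c⁻¹ * (c * t * c⁻¹) = 1 := by rw [conj_mul, t1]; group
        rcases (mem_zpowers_of_mul_self z2).1 h1 with h1 | h1 <;> rw [inv_mul_eq_iff_eq_mul] at h1 <;>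
          rw [h1] at hu <;> apply z1 <;> rw [← hu]
        · rwa [mul_one]
        · rw [mul_assoc _ z, ← mul_assoc z, hzc, mul_assoc _ z, z2, mul_one, h2]
    obtain ⟨v, rfl⟩ := hf v
    have v4 : v * v ∈ zpowers z := hk.1 (by rw [map_mul, ← pow_two, ← v1, pow_orderOf_eq_one])
    have v5 : v ∉ zpowers z := fun e => by simp [hk.2 e] at v1
    have hv : v ∈ S := key t ht t1 t2 t3 v ⟨2, by
      rcases (mem_zpowers_of_mul_self z2).1 v4 with e | e <;>
        simp only [pow_succ, pow_zero, one_mul, pow_mul, e, z2]⟩ v2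
    have hN : g * w * g⁻¹ * w * (g * w * g⁻¹)⁻¹ ∈ zpowers w := by
      rcases (mem_zpowers_of_mul_self z2).1 v4 with e | e
      · rcases w4' _ (key v hv e (fun e => v5 (e ▸ one_mem _)) (fun e => v5 (e ▸ mem_zpowers z)) _
          (hw2.conj g) v3.symm) with e | e <;> rw [e]
        exacts [mem_zpowers w, inv_mem (mem_zpowers w)]
      · have h1 : Commute (f (g * w * g⁻¹)) (f w) := by
          rcases w5 ⟨t, ht⟩ ⟨v, hv⟩ (Subtype.ext t1) (fun e => t2 (congrArg Subtype.val e))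
            (fun e => t3 (hz ▸ congrArg Subtype.val e)) (Subtype.ext (e.trans hz)) (by
              obtain ⟨i, hi⟩ := hc v2
              exact ⟨i, Subtype.ext (by simpa [hz] using hi)⟩) with e | e <;>
            obtain rfl : v = _ := congrArg Subtype.val e
          · exact v3.symm
          · simpa using v3.symm
        exact (mul_mem_cancel_right (inv_mem (mem_zpowers w))).1 (hzw (hc h1))
    refine (isPGroup_sup_of_le_normalizer_left hw2.isPGroup (hw2.conj g).isPGroup (zpowers_le.2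
      (mem_normalizer_of_cj_le (by rw [cj_zpowers]; exact zpowers_le.2 hN)))).to_le ?_
    rw [closure_le, Set.insert_subset_iff, Set.singleton_subset_iff]
    exact ⟨mem_sup_left (mem_zpowers _), mem_sup_right (mem_zpowers _)⟩
  obtain ⟨T, h1, h2⟩ := ess_inter_top hE
  refine layer_ne_bot_of_ui hO (hU.mono (h2 ▸ le_inf (H1.pCore_le_sylow S) (H1.pCore_le_sylow T))) hns
    (H23.layer_eq_bot_iff.2 fun L hL => H23.IsComponent.not_le_of_isSolvable hL (solv_of_cyc'
      ((isSylowIn_top S).inf_normal le_top (normal_iff_top_le_normalizer.1 inferInstance)) ?_)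
      (H23.IsComponent.le_layer hL))
  have := H72.isCyclic_map (S : Subgroup G).subtype w3
  refine isCyclic_of_le (H' := (centralizer ({⟨w, hw⟩} : Set S)).map (S : Subgroup G).subtype)
    fun s hs => ⟨⟨s, hs.1⟩, mem_centralizer_singleton_iff.2 (Subtype.ext ?_), rfl⟩
  exact (H23.layer_le_centralizer_pCore 2 hs.2 w hwQ).symm

theorem KS.ri_fus (ks : KS.{u}) (hO : pPrimeCore 2 G = ⊥) (h : RI G) (hns : ¬ Group.IsSolvable G)
    (S : Sylow 2 G) (hS : ¬ UI (S : Subgroup G)) : Fus 𝐍((S : Subgroup G)) ⊤ S :=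
  fus_of_no_ess (isSylowIn_top S) (ks.ri_no_ess hO h hns S hS)

end H69.SI
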