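import Mathlib
import Cfsg.Agent.Base
import Cfsg.Agent.Lib.SylInt.SD

/-! # Sylow intersections with a unique involution: one component -/

set_option autoImplicit false

namespace H69.SI

open Subgroup Cfsg H69 Gold H59 H45
open scoped MatrixGroups commutatorElement

universe u

variable {G : Type u} [Group G] [Finite G]

theorem KS.sc_amb (ks : KS.{u}) {N S : Subgroup G} (hs : IsSimpleGroup N) (hn : ¬ IsMulCommutative N)
    (hS : IsSylowIn 2 S N) (hsc : SC (zo S) N) :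
    TypeI N (zo S) S ∨ (TypeII N S ∧ ∃ g ∈ N, g ∉ 𝐍(S) ∧ S ⊓ S ^ᶜ g ≠ ⊥) := by
  have hns := simple_not_solv hs hn
  have hS1 := syl_ne_bot ks.k.ft hns hS
  have hZ := zo_ne_bot hS.isP hS1
  rcases ks.gs G N hs hn _ (ea_zo _) hZ hsc with ⟨T, h⟩ | h
  · obtain rfl := h.eq_of_syl hS fun e => hZ (by rw [eq_bot_iff, ← e]; exact le_inf h.le (zo_le _))
    exact Or.inl h
  have e := h.syl.max S (zo_le _) hS.le hS.isP
  refine or_iff_not_imp_right.2 fun hc => ?_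
  rw [← e] at h
  simp only [h, true_and, not_exists, not_and, not_not] at hc
  obtain ⟨P, hP⟩ := hS.exists_sylow_subgroupOf
  refine typeI_of_se ks.k hs hn (ea_zo S) hZ hsc hS (zo_le S) _ (H72.se_of_comm_sylow P
    (hP ▸ (ea_subgroupOf h.ea N).1) (even_iff_two_dvd.2 (hS.dvd_card_iff.2 hS1)) (fun e => ?_) le_rfl
    fun t ht h2 c hc' => ?_)
  · have := normalizer_eq_top_iff.1 e
    exact hns (H72.isSolvable_of_sylow_normal P)
  · replace ht : t ∈ S.subgroupOf N := hP ▸ ht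
    rw [hP]
    by_contra e
    have h3 : (t : G) ∈ S ⊓ S ^ᶜ (c : G) := ⟨ht, by
      have := cj_mem (c : G) (show (t : G) ∈ S from ht)
      rwa [← coe_mul, mem_centralizer_singleton_iff.1 hc', coe_mul, mul_inv_cancel_right] at this⟩
    rw [hc c c.2 fun e' => e ((mem_norm_subgroupOf hS.le).2 e'), mem_bot, OneMemClass.coe_eq_one] at h3
    simp [h3] at h2

theorem two_mul_le {A B : Subgroup G} (h : A ≤ B) {x : G} (h1 : x ∈ B) (h2 : x ∉ A) :
    2 * Nat.card A ≤ Nat.card B := by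
  obtain ⟨k, hk⟩ := card_dvd_of_le h
  have := card_lt (lt_of_le_of_ne h fun e => h2 (e ▸ h1))
  rcases k with _ | _ | k
  · omega
  · omega
  · rw [hk]; nlinarith

theorem exists_e8 {G' : Type*} [Group G'] (f : G →* G') {S : Subgroup G} {a b z : G} (ha : a ∈ S)
    (hb : b ∈ S) (hz : z ∈ S) (a2 : a * a = 1) (b2 : b * b = 1) (ab : a * b * (a * b) = 1)
    (z2 : z * z = 1) (za : z * a = a * z) (zb : z * b = b * z) (z1 : z ≠ 1) (fz : f z = 1)
    (fa : f a ≠ 1) (fb : f b ≠ 1) (fab : f b ≠ f a) :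
    ∃ E ≤ S, IsElementaryAbelian 2 E ∧ 2 ^ 3 ≤ Nat.card E := by
  have ab' : a * b = b * a := by
    rw [← inv_eq_of_mul_eq_one_right ab, mul_inv_rev, inv_eq_of_mul_eq_one_right a2,
      inv_eq_of_mul_eq_one_right b2]
  refine ⟨(zpowers z ⊔ zpowers a) ⊔ zpowers b, by simp [ha, hb, hz], ea_sup (ea_sup (ea_zpowers z2)
    (ea_zpowers a2) ?_) (ea_zpowers b2) ?_, ?_⟩
  · rw [centralizer_zpowers, zpowers_le, mem_centralizer_singleton_iff, za]
  · rw [centralizer_sup, centralizer_zpowers, centralizer_zpowers, zpowers_le]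
    exact ⟨mem_centralizer_singleton_iff.2 zb.symm, mem_centralizer_singleton_iff.2 ab'.symm⟩
  have h1 := two_mul_le (bot_le (a := zpowers z)) (mem_zpowers z) z1
  have h2 := two_mul_le (le_sup_left (a := zpowers z)) (mem_sup_right (mem_zpowers a)) fun e =>
    fa (zpowers_le.2 (show z ∈ f.ker from fz) e)
  have h3 := two_mul_le (le_sup_left (a := zpowers z ⊔ zpowers a)) (mem_sup_right (mem_zpowers b))
    fun e => ((mem_zpowers_of_mul_self (by rw [← map_mul, a2, map_one])).1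
      ((sup_le (zpowers_le.2 (by rw [mem_comap, fz]; exact one_mem _))
        (zpowers_le.2 (mem_zpowers (f a))) : _ ≤ (zpowers (f a)).comap f) e)).elim fb fab
  rw [card_bot] at h1
  omega

theorem RI.cent_syl (h : RI G) (hO : pPrimeCore 2 G = ⊥) {L : Subgroup G} (hL : IsComponent L)
    (hE : layer G = L) (S : Sylow 2 G) : (S : Subgroup G) ⊓ 𝐂(L) = pCore 2 G := by
  have hN : L.Normal := hE ▸ inferInstance
  have hR : pCore 2 G ≤ (S : Subgroup G) ⊓ 𝐂(L) :=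
    le_inf (H1.pCore_le_sylow S) (hE ▸ centsC.1 (H23.layer_le_centralizer_pCore 2))
  have hQ := (isSylowIn_top S).inf_normal le_top (normal_iff_top_le_normalizer.1 (inferInstance : (𝐂(L)).Normal))
  have hT := (isSylowIn_top S).inf_normal le_top (normal_iff_top_le_normalizer.1 hN)
  have h1 : 𝐂(L) ≤ 𝐍((S : Subgroup G) ⊓ 𝐂(L)) := fun g hg => by
    by_contra e
    have h2 : ∀ {Q : Subgroup G}, Q ≤ 𝐂(L) → (S : Subgroup G) ⊓ L ≤ 𝐍(Q) := fun hQ =>
      inf_le_right.trans (cents_norm (centsC.1 hQ))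
    obtain ⟨S₁, S₂, h3, h4, h5⟩ := exists_inter_of_norm hQ (hQ.cj_of_mem hg)
      (fun e' => e (cj_eq_self_iff.1 e'.symm)) hT.isP (h2 hQ.le) (h2 (hQ.cj_of_mem hg).le)
    have h6 := le_inf (H1.pCore_le_sylow S₁) (H1.pCore_le_sylow S₂)
    have h7 := H23.centralizer_fStar_le_fitting (G := G)
    rw [H23.fStar_def, centralizer_sup, hE, H1.fitting_eq_pCore_of_pPrimeCore_eq_bot hO] at h7
    refine e (le_normalizer (hR (h7 ⟨hg, fun r hr => ?_⟩)))
    exact (((h S₁ S₂ h3).mono h6).comm hr ((h S₁ S₂ h3).sq_of_cent (S₁.isPGroup'.to_le inf_le_left)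
      (le_inf (le_sup_right.trans h4) (le_sup_right.trans h5))
      (fun e => H72.not_isSolvable_of_component hL (solv_of_cyc' hT e)) (h6 hr)
      (centralizer_anti inf_le_right (hR hr).2)) (normal_iff_top_le_normalizer.1 inferInstance (mem_top g))).symm
  have : ((S : Subgroup G) ⊓ 𝐂(L)).Normal := normal_iff_top_le_normalizer.2 fun g hg => by
    obtain ⟨n, hn, a, ha, rfl⟩ := hQ.frattini (normal_iff_top_le_normalizer.1 inferInstance hg)
    exact mul_mem (h1 hn) ha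
  exact le_antisymm (H1.le_pCore hQ.isP) hR

theorem KS.ri_one (ks : KS.{u}) (hO : pPrimeCore 2 G = ⊥) (h : RI G) (S T : Sylow 2 G) (hne : S ≠ T)
    (hc : ¬ IsCyclic ((S : Subgroup G) ⊓ T : Subgroup G)) (hS : ¬ UI (S : Subgroup G))
    {L : Subgroup G} (hL : IsComponent L) [hN : L.Normal] (hE : layer G = L) :
    (S : Subgroup G) ≤ L ⊔ pCore 2 G ∧ ¬ IsCyclic (pCore 2 G) ∧ Ben (L.map (QuotientGroup.mk' 𝐂(L))) ∧
      ∃ E ≤ (S : Subgroup G), IsElementaryAbelian 2 E ∧ 2 ^ 3 ≤ Nat.card E := by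
  have hF := ks.ri_fus hO h (fun e => H72.not_isSolvable_of_component hL inferInstance) S hS
  have hQ := h.cent_syl hO hL hE S
  have hD := h S T hne
  have hRD := le_inf (H1.pCore_le_sylow S) (H1.pCore_le_sylow T)
  have hf := QuotientGroup.mk'_surjective 𝐂(L)
  have hm := ks.map_eq hL S hF
  set f := QuotientGroup.mk' 𝐂(L) with hfd
  have hk : ∀ {y}, f y = 1 ↔ y ∈ 𝐂(L) := QuotientGroup.eq_one_iff _
  have hCN : 𝐂(L) ≤ 𝐍((S : Subgroup G)) := le_normalizer_of_cj_le fun c hc x hx => by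
    obtain ⟨s, hs, rfl⟩ := mem_cj'.1 hx
    obtain ⟨t, ht, q, hq, rfl⟩ := ks.split hL S hF hs
    rw [← conj_mul, conj_eq_of_mem_centralizer hc ht.2]
    rw [hQ] at hq
    exact mul_mem ht.1 (H1.pCore_le_sylow S ((inferInstance : (pCore 2 G).Normal).conj_mem q hq c))
  have hmem : ∀ (g x : G), El2 x → f x ∈ (S : Subgroup G).map f ^ᶜ f g → x ∈ (g • S : Sylow 2 G) := by
    intro g x h1 h2
    rw [← map_cj, ← coe_smul_sylow] at h2
    obtain ⟨s, hs, e⟩ := h2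
    refine mem_syl_of_el2 (isSylowIn_top _) (mem_top x) ?_ h1
    rw [← mul_inv_cancel_left s x]
    refine mul_mem (le_normalizer hs) ?_
    rw [coe_smul_sylow, ← cj_normalizer]
    exact cj_mono g hCN ((cj_eq_of_normal 𝐂(L) g).ge (QuotientGroup.eq.1 e))
  have hmem' : ∀ x : G, El2 x → f x ∈ (S : Subgroup G).map f → x ∈ S := fun x h1 h2 => by
    simpa using hmem 1 x h1 (by rwa [map_one, cj_one])
  obtain ⟨h1, h2⟩ := simple_map_cent hL.2
  have hS' : IsSylowIn 2 ((S : Subgroup G).map f) (L.map f) :=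
    hm ▸ ((isSylowIn_top S).inf_normal le_top (normal_iff_top_le_normalizer.1 hN)).map f
  have hsc : SC (zo ((S : Subgroup G).map f)) (L.map f) :=
    (sc_of_fus (isSylowIn_top (S.mapSurjective hf)) (zo_le _) fun A g h1 h2 h3 => by
      obtain ⟨x, hx, e⟩ := fus_map (isSylowIn_top S) hF _ A g h1 h2 h3
      exact ⟨x, ⟨hx.1, norm_zo _ hx.2⟩, e⟩).mono ((zo_le _).trans hS'.le) le_top
  rcases ks.sc_amb h1 h2 hS' hsc with h3 | ⟨h3, g, -, hg, h4⟩
  swap
  · exfalso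
    by_cases hR : pCore 2 G = ⊥
    · obtain ⟨i, hi, -, -, h5, -⟩ := hD.exists_ij (S.isPGroup'.to_le inf_le_left) hc
      refine h5 (mem_bot.1 ?_)
      rw [← hR, ← hQ]
      exact ⟨mul_mem hi.1 hi.1, hk.1 (by rw [map_mul]; exact ea_sq h3.ea (mem_map_of_mem f hi.1))⟩
    obtain ⟨z, hz, z2⟩ := exists_orderOf_eq_prime H1.isPGroup_pCore hR
    obtain ⟨u, hu, u2, u1, uz⟩ := exists_inv_ne hS z
    have uo : orderOf u = 2 := orderOf_eq_prime (by rwa [pow_two]) u1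
    have h5 : u ∉ pCore 2 G := fun e => uz ((hD.mono hRD).ord e hz uo z2)
    obtain ⟨g, rfl⟩ := hf g
    obtain ⟨t, ht, t1⟩ := exists_ne_one h4
    obtain ⟨n, -, e⟩ := h3.trans _ (mem_map_of_mem f hu) (fun e => h5 (hQ ▸ ⟨hu, hk.1 e⟩)) t ht.1 t1
    obtain ⟨n, rfl⟩ := hf n
    rw [← map_inv, ← map_mul, ← map_mul] at e
    have h6 := (El2.of_mul_self u2).conj n
    have h7 := (h S (g • S) fun e => hg (le_normalizer_map f (mem_map_of_mem f
      (Sylow.smul_eq_iff_mem_normalizer.1 e.symm)))).ord ⟨hmem' _ h6 (e ▸ ht.1), hmem g _ h6 (e ▸ ht.2)⟩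
      ⟨H1.pCore_le_sylow _ hz, H1.pCore_le_sylow _ hz⟩ (uo ▸ (MulAut.conj n).orderOf_eq u) z2
    refine h5 ?_
    have := (inferInstance : (pCore 2 G).Normal).conj_mem' z hz n
    rwa [← h7, show n⁻¹ * (n * u * n⁻¹) * n = u by group] at this
  have hDR : (S : Subgroup G) ⊓ T ≤ pCore 2 G := fun x hx => by
    obtain ⟨g, rfl⟩ := MulAction.exists_smul_eq G S T
    rw [← hQ]
    refine ⟨hx.1, hk.1 (by_contra fun e => hne (Sylow.ext (Eq.symm ((isSylowIn_top _).max _ (fun y hy => ?_)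
      le_top (g • S).isPGroup'))))⟩
    have h4 := h3.eq_of_syl (hS'.cj_of_mem_normalizer (normal_iff_top_le_normalizer.1 (hN.map f hf)
      (mem_top (f g)))) fun e' => e (mem_bot.1 (e' ▸ ⟨mem_map_of_mem f hx.1, by
        rw [← map_cj, ← coe_smul_sylow]; exact mem_map_of_mem f hx.2⟩))
    exact hmem g y (El2.of_mem S.isPGroup' hy) (h4.symm ▸ mem_map_of_mem f hy)
  have hc' : ¬ IsCyclic (pCore 2 G) := le_antisymm hDR hRD ▸ hc
  have hU := hD.mono hRD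
  refine ⟨fun s hs => ?_, hc', ks.ben h3 h1, ?_⟩
  · obtain ⟨t, ht, q, hq, rfl⟩ := ks.split hL S hF hs
    exact mul_mem (mem_sup_left ht.2) (mem_sup_right (hQ ▸ hq))
  obtain ⟨i, hi, j, hj, i1, i2, ij, ij'⟩ := hU.exists_ij H1.isPGroup_pCore hc'
  have hRC : pCore 2 G ≤ 𝐂(L) := hQ ▸ inf_le_right
  have hZ : ∀ c ∈ L ⊓ 𝐂(L), c ∈ pCore 2 G ∧ c * c = 1 := fun c hc =>
    have := H1.fitting_eq_pCore_of_pPrimeCore_eq_bot hO ▸ H23.inf_centralizer_le_fitting hL.1 hc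
    ⟨this, hU.sq_of_cent H1.isPGroup_pCore le_rfl hc' this (centsC.1 hRC hc.1)⟩
  have hsq : ∀ y ∈ L, f y ∈ zo ((S : Subgroup G).map f) → y * y ∈ L ⊓ 𝐂(L) := fun y hy h5 =>
    ⟨mul_mem hy hy, hk.1 (by rw [map_mul]; exact h5.2)⟩
  have heq : ∀ x ∈ L, f x ∈ zo ((S : Subgroup G).map f) → f x ≠ 1 →
      ∀ y ∈ L, f y ∈ zo ((S : Subgroup G).map f) → f y ≠ 1 → y * y = x * x := fun x hx x1 x2 y hy y1 y2 => by
    obtain ⟨_, ⟨⟨g, hg, rfl⟩, -⟩, -, e⟩ := h3.trans_odd x1 x2 y1 y2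
    replace hg : g ∈ L := hg
    have h5 : (g * x * g⁻¹)⁻¹ * y ∈ L ⊓ 𝐂(L) := mem_inf.2
      ⟨mul_mem (inv_mem (mul_mem (mul_mem hg hx) (inv_mem hg))) hy,
      hk.1 (by rw [map_mul, map_inv, map_mul, map_mul, map_inv, e, inv_mul_cancel])⟩
    obtain ⟨c, rfl⟩ : ∃ c, y = g * x * g⁻¹ * c := ⟨_, (mul_inv_cancel_left _ y).symm⟩
    rw [inv_mul_cancel_left] at h5
    rw [mul_assoc _ c, ← mul_assoc c, ← h5.2 _ (mul_mem (mul_mem hg hx) (inv_mem hg)), mul_assoc _ c,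
      (hZ c h5).2, mul_one, conj_mul, (hsq x hx x1).2 g hg, mul_inv_cancel_right]
  obtain ⟨a, a1, a2, -⟩ := exists_three h3.four 1 1
  obtain ⟨b, b1, b2, b3⟩ := exists_three h3.four 1 a
  obtain ⟨a, ha, rfl⟩ := hm.le (zo_le _ a1)
  obtain ⟨b, hb, rfl⟩ := hm.le (zo_le _ b1)
  have e1 := heq a ha.2 a1 a2 b hb.2 b1 b2
  have e2 := heq a ha.2 a1 a2 _ (mul_mem ha.2 hb.2) (by rw [map_mul]; exact mul_mem a1 b1) fun e => b3 (by
    rw [map_mul] at e; rw [← inv_eq_of_mul_eq_one_right e, inv_eq_of_mul_eq_one_right a1.2])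
  have hz := mul_mem hi hi
  have hRS := H1.pCore_le_sylow S
  by_cases e3 : a * a = 1
  · exact exists_e8 f ha.1 hb.1 (hRS hz) e3 (e1.trans e3) (e2.trans e3) i2 (hRC hz a ha.2).symm
      (hRC hz b hb.2).symm i1 (hk.2 (hRC hz)) a2 b2 b3
  have e4 := hU _ (hZ _ (hsq a ha.2 a1)).1 _ hz (hZ _ (hsq a ha.2 a1)).2 i2 e3 i1
  have key : ∀ x ∈ L, ∀ q ∈ pCore 2 G, x * x = a * a → q * q = i * i → x * q * (x * q) = 1 :=
    fun x hx q hq e5 e6 => by
      rw [mul_assoc, ← mul_assoc q, ← hRC hq x hx, mul_assoc, e6, ← mul_assoc, e5, e4, i2]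
  have hzc : ∀ x ∈ L, ∀ q ∈ pCore 2 G, i * i * (x * q) = x * q * (i * i) := fun x hx q hq => by
    rw [← mul_assoc, ← hRC hz x hx, mul_assoc x, mul_assoc x, hU.comm hz i2 (le_normalizer hq)]
  refine exists_e8 f (mul_mem ha.1 (hRS hi)) (mul_mem hb.1 (hRS hj)) (hRS hz) (key a ha.2 i hi rfl rfl)
    (key b hb.2 j hj e1 ij) ?_ i2 (hzc a ha.2 i hi) (hzc b hb.2 j hj) i1 (hk.2 (hRC hz)) ?_ ?_ ?_
  · rw [show a * i * (b * j) = a * b * (i * j) by
      rw [mul_assoc, ← mul_assoc i, ← hRC hi b hb.2, mul_assoc, mul_assoc]]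
    exact key _ (mul_mem ha.2 hb.2) _ (mul_mem hi hj) e2 ij'
  all_goals simpa only [map_mul, hk.2 (hRC hi), hk.2 (hRC hj), mul_one]

end H69.SI
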