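import Mathlib
import Cfsg.Agent.Base
import Cfsg.Agent.Lib.SylInt.RI2
import Cfsg.Agent.Lib.InvChar.Rigid

/-! # Sylow intersections with a unique involution: two components -/

set_option autoImplicit false

namespace H69.SI

open Subgroup Cfsg H69 Gold H59 H45 H82
open scoped MatrixGroups commutatorElement

universe u

variable {G : Type u} [Group G] [Finite G]

theorem sl25_three {θ : SL25 →* G} (hθ : Function.Injective θ) {T : Subgroup G}
    (hT : IsSylowIn 2 T θ.range) : ∃ d ∈ θ.range, d ∈ 𝐍(T) ∧ orderOf d = 3 := by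
  obtain ⟨P⟩ : Nonempty (Sylow 2 SL25) := inferInstance
  have h1 := (𝐍((P : Subgroup SL25))).card_mul_index
  rw [card_SL25, show (𝐍((P : Subgroup SL25))).index = 5 from
    (Sylow.card_eq_index_normalizer P).symm.trans card_sylow_SL25] at h1
  obtain ⟨d, hd, h3⟩ := H1.exists_mem_orderOf_eq_prime (H := 𝐍((P : Subgroup SL25))) Nat.prime_three
    (by omega)
  have h2 := (isSylowIn_top P).map θ
  rw [← MonoidHom.range_eq_map] at h2
  obtain ⟨g, hg, rfl⟩ := h2.conj hT
  refine ⟨g * θ d * g⁻¹, mul_mem (mul_mem hg ⟨d, rfl⟩) (inv_mem hg), ?_, ?_⟩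
  · rw [← cj_normalizer]; exact cj_mem g (le_normalizer_map θ (mem_map_of_mem θ hd))
  · rw [← h3, ← orderOf_injective θ hθ d]; exact (MulAut.conj g).orderOf_eq _

theorem comp_syl {K : Subgroup G} (hK : IsComponent K) (S : Sylow 2 G) :
    IsSylowIn 2 ((S : Subgroup G) ⊓ K) K := by
  have := ((isSylowIn_top S).inf_normal le_top (normal_iff_top_le_normalizer.1
    (inferInstance : (layer G).Normal))).inf_normal (H23.IsComponent.le_layer hK)
    (H23.IsComponent.layer_le_normalizer hK)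
  rwa [inf_assoc, inf_eq_right.2 (H23.IsComponent.le_layer hK)] at this

theorem comp_ncyc {K : Subgroup G} (hK : IsComponent K) (S : Sylow 2 G) :
    ¬ IsCyclic ((S : Subgroup G) ⊓ K : Subgroup G) := fun e =>
  H72.not_isSolvable_of_component hK (solv_of_cyc' (comp_syl hK S) e)

theorem comp_center (hO : pPrimeCore 2 G = ⊥) {K : Subgroup G} (hK : IsComponent K) :
    K ⊓ 𝐂(K) ≤ pCore 2 G :=
  H1.fitting_eq_pCore_of_pPrimeCore_eq_bot hO ▸ H23.inf_centralizer_le_fitting hK.1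

section
variable (h : RI G) {K L : Subgroup G} (hK : IsComponent K) (hL : IsComponent L) (hne : K ≠ L)
include hK hL hne

omit [Finite G] in
theorem comp_cent : K ≤ 𝐂(L) :=
  le_centralizer_of_commutator_eq_bot (H23.IsComponent.commutator_eq_bot_of_ne hK hL hne)

theorem not_ui_two (S : Sylow 2 G) : ¬ UI ((S : Subgroup G) ⊓ K ⊔ (S : Subgroup G) ⊓ L) := fun e => by
  obtain ⟨i, hi, -, -, h1, -⟩ := (e.mono le_sup_left).exists_ij (comp_syl hK S).isP (comp_ncyc hK S)
  exact h1 (e.sq_of_cent (S.isPGroup'.to_le (sup_le inf_le_left inf_le_left)) le_sup_right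
    (comp_ncyc hL S) (mem_sup_left hi) (centralizer_anti inf_le_right (comp_cent hK hL hne hi.2)))

include h

theorem RI.ui_comp {P : Subgroup G} (hP : IsPGroup 2 P) (hle : P ≤ K) : UI P :=
  h.ui_of_cent (H72.not_isSolvable_of_component hL) hP (hle.trans (comp_cent hK hL hne))

theorem RI.comp_eq {M : Subgroup G} (hM : IsComponent M) : M = K ∨ M = L := by
  by_contra e
  push Not at e
  obtain ⟨S⟩ : Nonempty (Sylow 2 G) := inferInstance
  exact not_ui_two hK hL hne S (h.ui_of_cent (H72.not_isSolvable_of_component hM)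
    (S.isPGroup'.to_le (sup_le inf_le_left inf_le_left)) (sup_le
      (inf_le_right.trans (comp_cent hK hM e.1.symm)) (inf_le_right.trans (comp_cent hL hM e.2.symm))))

theorem RI.ci_comp : CI K := ci_of_inter fun P P' hP x hx y hy => by
  obtain ⟨S⟩ : Nonempty (Sylow 2 G) := inferInstance
  have h1 : ∀ {Q : Subgroup G}, Q ≤ K → (S : Subgroup G) ⊓ L ≤ 𝐍(Q) := fun hQ =>
    inf_le_right.trans (cents_norm (centsC.1 (hQ.trans (comp_cent hK hL hne))))
  obtain ⟨S₁, S₂, h2, h3, h4⟩ := exists_inter_of_norm (isSylowIn_map_subtype P) (isSylowIn_map_subtype P')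
    (fun e => hP (Sylow.ext (map_subtype_inj.1 e))) (comp_syl hL S).isP (h1 (map_subtype_le _))
    (h1 (map_subtype_le _))
  exact Subtype.ext ((h.ui_comp hK hL hne (P.isPGroup'.map K.subtype) (map_subtype_le _)).comm
    (mem_map_of_mem _ hx.1) ((h S₁ S₂ h2).sq_of_cent (S₁.isPGroup'.to_le inf_le_left)
      (le_inf (le_sup_right.trans h3) (le_sup_right.trans h4)) (comp_ncyc hL S)
      ⟨h3 (mem_sup_left (mem_map_of_mem _ hx.1)), h4 (mem_sup_left (mem_map_of_mem _ hx.2))⟩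
      (centralizer_anti inf_le_right (comp_cent hK hL hne x.2))) (le_normalizer (mem_map_of_mem _ hy)))

theorem KS.ri_sl25 (ks : KS.{u}) (hO : pPrimeCore 2 G = ⊥) :
    ∃ θ : SL25 →* G, Function.Injective θ ∧ θ.range = K := by
  obtain ⟨S⟩ : Nonempty (Sylow 2 G) := inferInstance
  obtain ⟨P, hP⟩ := (comp_syl hK S).exists_sylow
  have hU := h.ui_comp hK hL hne (comp_syl hK S).isP inf_le_right
  rcases ks.ci_quasi hK.2 (h.ci_comp hK hL hne) (by
    rw [← isPGroup_map_subtype_iff, map_subtype_center]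
    exact H1.isPGroup_pCore.to_le (comp_center hO hK)) P (fun e => hU.not_comm (comp_syl hK S).isP
      (comp_ncyc hK S) (hP ▸ comm_iff_le_cent.1 inferInstance)) with ⟨⟨e⟩⟩ | ⟨-, e⟩
  · exact ⟨K.subtype.comp e.symm.toMonoidHom, K.subtype_injective.comp e.symm.injective, by
      rw [MonoidHom.range_comp, MonoidHom.range_eq_top.2 e.symm.surjective, map_subtype_top]⟩
  · refine absurd ?_ e
    have := H72.isCyclic_comap K.subtype_injective (hU.der (comp_syl hK S).isP)
    refine isCyclic_of_le (H' := (⁅(S : Subgroup G) ⊓ K, (S : Subgroup G) ⊓ K⁆).comap K.subtype) ?_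
    rw [← map_le_iff_le_comap, map_commutator, hP]

theorem KS.ri_noswap (ks : KS.{u}) (hO : pPrimeCore 2 G = ⊥) (S : Sylow 2 G) :
    (S : Subgroup G) ≤ 𝐍(K) := fun s hs => by
  refine cj_eq_self_iff.1 ((h.comp_eq hK hL hne (H23.IsComponent.map_conj hK s)).resolve_right fun e => ?_)
  replace e : K ^ᶜ s = L := e
  obtain ⟨θ, h1, rfl⟩ := ks.ri_sl25 h hK hL hne hO
  obtain ⟨d, hd, h2, h3⟩ := sl25_three h1 (comp_syl hK S)
  have h4 := comp_cent hK hL hne hd
  have h5 : d ∈ 𝐍((S : Subgroup G)) := h.norm (not_ui_two hK hL hne S) (sup_le inf_le_left inf_le_left)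
    (le_normalizer_sup (zpowers_le.2 h2) (zpowers_le.2 (cents_norm (centralizer_anti inf_le_right) h4))
      (mem_zpowers d))
  have ho : Odd (orderOf d) := h3 ▸ by decide
  have h6 : s * d⁻¹ * s⁻¹ ∈ L := e ▸ cj_mem s (inv_mem hd)
  have h7 : d * (s * d⁻¹ * s⁻¹) = 1 := El2.eq_one (El2.of_mem S.isPGroup' (by
    rw [← mul_assoc, ← mul_assoc]
    exact mul_mem (conj_mem_of_mem_normalizer h5 hs) (inv_mem hs)))
    (odd_mul ho (odd_conj (by rwa [orderOf_inv]) s) (h4 _ h6).symm)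
  have h8 : d ∈ L := by rw [eq_inv_of_mul_eq_one_left h7]; exact inv_mem h6
  rw [El2.eq_one (El2.of_mem H1.isPGroup_pCore (comp_center hO hL ⟨h8, h4⟩)) ho, orderOf_one] at h3
  exact absurd h3 (by decide)

theorem KS.ri_normal (ks : KS.{u}) (hO : pPrimeCore 2 G = ⊥) : K.Normal :=
  normal_iff_top_le_normalizer.2 fun g _ => by
    obtain ⟨a, -, b, -, h1, h2, rfl⟩ := exists_parts g
    obtain ⟨S, hS⟩ := h2.isPGroup.exists_le_sylow
    refine mul_mem (H72.mem_of_odd_of_two_pow (fun x => ⟨1, ?_⟩) h1)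
      (ks.ri_noswap h hK hL hne hO S (hS (mem_zpowers b)))
    rw [pow_one, pow_two, ← cj_eq_self_iff, ← cj_cj]
    rcases h.comp_eq hK hL hne (H23.IsComponent.map_conj hK x) with e | e <;>
      replace e : K ^ᶜ x = _ := e
    · rw [e, e]
    · rw [e]
      exact (h.comp_eq hK hL hne (H23.IsComponent.map_conj hL x)).resolve_right fun e' =>
        hne (cj_inj.1 (e.trans e'.symm))

theorem KS.ri_two (ks : KS.{u}) (hO : pPrimeCore 2 G = ⊥) (S : Sylow 2 G) :
    ∃ φ : SL25 × SL25 →* G, φ.ker = zpowers (-1, -1) ∧ φ.range.Normal ∧ (S : Subgroup G) ≤ φ.range := by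
  have h1 := ks.ri_normal h hK hL hne hO
  have h2 := ks.ri_normal h hL hK hne.symm hO
  have hc := comp_cent hK hL hne
  have hF := ks.ri_fus hO h (fun e => H72.not_isSolvable_of_component hL inferInstance) S
    fun e => not_ui_two hK hL hne S (e.mono (sup_le inf_le_left inf_le_left))
  have hU : UI ((S : Subgroup G) ⊓ 𝐂(L)) := h.ui_of_cent (H72.not_isSolvable_of_component hL)
    (S.isPGroup'.to_le inf_le_left) inf_le_right
  have hS : (S : Subgroup G) ≤ K ⊔ L := fun s hs => by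
    obtain ⟨a, ha, c, hc', rfl⟩ := ks.split hL S hF hs
    obtain ⟨b, hb, d, hd, rfl⟩ := ks.split hK S hF hc'.1
    refine mul_mem (mem_sup_right ha.2) (mul_mem (mem_sup_left hb.2) (mem_sup_left ?_))
    have h3 : d ∈ (S : Subgroup G) ⊓ 𝐂(L) := ⟨hd.1, (mul_mem_cancel_left (hc hb.2)).1 (mem_inf.1 hc').2⟩
    have h4 := inf_le_inf_left (S : Subgroup G) hc
    obtain ⟨i, hi, -, -, i1, i2, -⟩ := (hU.mono h4).exists_ij (comp_syl hK S).isP (comp_ncyc hK S)
    by_cases e : d = 1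
    · exact e ▸ one_mem K
    rw [hU d h3 _ (h4 (mul_mem hi hi)) (hU.sq_of_cent (S.isPGroup'.to_le inf_le_left) h4 (comp_ncyc hK S)
      h3 (centralizer_anti inf_le_right hd.2)) i2 e i1]
    exact mul_mem hi.2 hi.2
  obtain ⟨θ, θ1, rfl⟩ := ks.ri_sl25 h hK hL hne hO
  obtain ⟨ψ, ψ1, rfl⟩ := ks.ri_sl25 h hL hK hne.symm hO
  have hcomm : ∀ a b, Commute (θ a) (ψ b) := fun a b => (hc ⟨a, rfl⟩ _ ⟨b, rfl⟩).symm
  have hz : ∀ {ρ : SL25 →* G}, ρ (-1) ∈ ρ.range ⊓ 𝐂(ρ.range) := fun {ρ} => ⟨⟨_, rfl⟩, by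
    rintro _ ⟨a, rfl⟩
    rw [← map_mul, ← map_mul, mul_neg, neg_mul, mul_one, one_mul]⟩
  have hz2 : ∀ {ρ : SL25 →* G}, ρ (-1) * ρ (-1) = 1 := fun {ρ} => by
    rw [← map_mul, neg_mul_neg, one_mul, map_one]
  have hn : (-1 : SL25) ≠ 1 := by decide
  have e : θ (-1) = ψ (-1) := hU _ ⟨H1.pCore_le_sylow S (comp_center hO hK hz), hc hz.1⟩ _
    ⟨H1.pCore_le_sylow S (comp_center hO hL hz), hz.2⟩ hz2 hz2 (fun e => hn (θ1 (by rw [e, map_one])))
    fun e => hn (ψ1 (by rw [e, map_one]))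
  refine ⟨θ.noncommCoprod ψ hcomm, le_antisymm ?_ (zpowers_le.2 ?_), ?_, ?_⟩
  · rintro ⟨a, b⟩ hab
    replace hab : θ a * ψ b = 1 := hab
    have h3 : a ∈ center SL25 := mem_center_iff.2 fun c => θ1 (by
      rw [map_mul, map_mul, eq_inv_of_mul_eq_one_left hab]
      exact (hcomm c b).inv_right)
    rcases mem_center_SL25.1 h3 with rfl | rfl
    · rw [map_one, one_mul, map_eq_one_iff ψ ψ1] at hab
      rw [hab]; exact one_mem _
    · rw [e, ← map_mul, map_eq_one_iff ψ ψ1, neg_mul, one_mul, neg_eq_iff_eq_neg] at hab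
      rw [hab]; exact mem_zpowers _
  · exact show θ (-1) * ψ (-1) = 1 from e ▸ hz2
  · rw [MonoidHom.noncommCoprod_range]; infer_instance
  · rwa [MonoidHom.noncommCoprod_range]

end

end H69.SI
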